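import Cfsg.Agent.Lib.CharTheory.Gallagher
import Cfsg.Agent.Lib.CharTheory.AbelianInertia
import Cfsg.Agent.Lib.Blocks.DefectZeroProducts

/-! # Real characters of odd degree: elementary lemmas. -/

set_option autoImplicit false

namespace CfsgLib.RealOdd

open Cfsg CfsgLib.CharTheory
open scoped ComplexConjugate

universe u

/-- The degree is an odd natural number. -/
def OddDeg {G : Type u} [Group G] (χ : G → ℂ) : Prop := ∃ d : ℕ, Odd d ∧ χ 1 = d

/-- All values are real. -/
def Re0 {G : Type u} [Group G] (χ : G → ℂ) : Prop := ∀ g, conj (χ g) = χ g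

/-- The number of real irreducible characters of odd degree. -/
noncomputable def rcount (G : Type u) [Group G] : ℕ :=
  Nat.card {χ : IrrCharacter G // Re0 (χ : G → ℂ) ∧ OddDeg (χ : G → ℂ)}

/-- Every irreducible character of odd degree is real. -/
def AllReal (G : Type u) [Group G] : Prop :=
  ∀ χ : IrrCharacter G, OddDeg (χ : G → ℂ) → Re0 (χ : G → ℂ)

variable {G : Type u} [Group G]

theorem oddDeg_iff [Finite G] (χ : IrrCharacter G) :
    Odd (charDegree (χ : G → ℂ)) ↔ OddDeg (χ : G → ℂ) := by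
  constructor
  · exact fun h => ⟨_, h, (CfsgLib.Blocks.irr_charDegree_cast χ).symm⟩
  · rintro ⟨d, hd, h⟩
    rwa [show charDegree (χ : G → ℂ) = d from
      Nat.cast_injective (R := ℂ) (by rw [CfsgLib.Blocks.irr_charDegree_cast, h])]

theorem re0_iff (χ : G → ℂ) : (∀ g, (χ g).im = 0) ↔ Re0 χ :=
  forall_congr' fun _ => Complex.conj_eq_iff_im.symm

theorem rcount_congr {H : Type u} [Group H] [Finite G] [Finite H] (e : G ≃* H) :
    rcount G = rcount H := by
  refine Nat.card_congr
    { toFun := fun χ => ⟨⟨fun h => (χ.1 : G → ℂ) (e.symm h),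
        isIrrCharacter_comp_surjective χ.1.2 e.symm.toMonoidHom e.symm.surjective⟩,
        fun h => χ.2.1 _, by simpa [OddDeg] using χ.2.2⟩
      invFun := fun χ => ⟨⟨fun g => (χ.1 : H → ℂ) (e g),
        isIrrCharacter_comp_surjective χ.1.2 e.toMonoidHom e.surjective⟩,
        fun g => χ.2.1 _, by simpa [OddDeg] using χ.2.2⟩
      left_inv := fun χ => Subtype.ext (Subtype.ext (funext fun g => by simp))
      right_inv := fun χ => Subtype.ext (Subtype.ext (funext fun g => by simp)) }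

theorem rcount_quotient [Finite G] (K : Subgroup G) [K.Normal]
    (hK : ∀ χ : IrrCharacter G, Re0 (χ : G → ℂ) → OddDeg (χ : G → ℂ) →
      ∀ n ∈ K, (χ : G → ℂ) n = (χ : G → ℂ) 1) : rcount (G ⧸ K) = rcount G := by
  refine Nat.card_congr (Equiv.ofBijective (fun ψ => ⟨(quotientIrrEquiv K ψ.1).1,
    fun g => ψ.2.1 _, ψ.2.2⟩) ⟨fun a b h => ?_, fun χ => ?_⟩)
  · have h1 : ((quotientIrrEquiv K) a.1).1 = ((quotientIrrEquiv K) b.1).1 := congrArg (fun x => x.1) h
    exact Subtype.ext ((quotientIrrEquiv K).injective (Subtype.ext h1))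
  · obtain ⟨ψ, hψ, e⟩ := exists_quotient_irr K χ.1.2 (hK χ.1 χ.2.1 χ.2.2)
    refine ⟨⟨⟨ψ, hψ⟩, fun q => ?_, ?_⟩, Subtype.ext (Subtype.ext e.symm)⟩
    · obtain ⟨g, rfl⟩ := QuotientGroup.mk_surjective q
      have := χ.2.1 g
      rwa [e] at this
    · obtain ⟨d, hd, h1⟩ := χ.2.2
      exact ⟨d, hd, by rw [e] at h1; exact h1⟩

theorem allReal_quotient [Finite G] (K : Subgroup G) [K.Normal] (h : AllReal G) :
    AllReal (G ⧸ K) := by
  intro ψ hψ q
  obtain ⟨g, rfl⟩ := QuotientGroup.mk_surjective q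
  exact h (quotientIrrEquiv K ψ).1 hψ g

/-- If the sum `∑ aᵢ bᵢ` is odd some product is odd. -/
theorem exists_odd_of_odd_sum {ι : Type*} (s : Finset ι) (a : ι → ℕ) (h : Odd (∑ i ∈ s, a i)) :
    ∃ i ∈ s, Odd (a i) := by
  by_contra hno
  push Not at hno
  exact (Nat.not_even_iff_odd.2 h)
    ((even_iff_two_dvd).2 (Finset.dvd_sum fun i hi => (Nat.not_odd_iff_even.1 (hno i hi)).two_dvd))

/-- An odd degree character has a constituent of odd degree. -/
theorem exists_odd_constituent [Fintype G] {χ : G → ℂ} (hχ : IsCharacter G χ) (hodd : OddDeg χ) :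
    ∃ φ : IrrCharacter G, OddDeg (φ : G → ℂ) ∧ classInner χ (φ : G → ℂ) ≠ 0 := by
  classical
  obtain ⟨d, hd, h1⟩ := hodd
  choose c hc using fun φ : IrrCharacter G => classInner_char_nat hχ (isCharacter_of_irr φ.2)
  have e := congrFun (eq_sum_irr (isClassFunction_char hχ)) 1
  simp only [Finset.sum_apply, Pi.smul_apply, smul_eq_mul, hc, ← CfsgLib.Blocks.irr_charDegree_cast,
    h1] at e
  obtain ⟨φ, -, hφ⟩ := exists_odd_of_odd_sum Finset.univ
    (fun φ : IrrCharacter G => c φ * charDegree (φ : G → ℂ)) (by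
      have : d = ∑ φ : IrrCharacter G, c φ * charDegree (φ : G → ℂ) := by exact_mod_cast e
      rwa [← this])
  rw [Nat.odd_mul] at hφ
  refine ⟨φ, (oddDeg_iff φ).1 hφ.2, ?_⟩
  rw [hc]
  exact Nat.cast_ne_zero.2 hφ.1.pos.ne'

/-- A linear character of a subgroup of odd index lies under one of odd degree. -/
theorem exists_odd_over [Fintype G] (K : Subgroup G) [Fintype K] (hK : Odd K.index) (μ : K →* ℂˣ) :
    ∃ χ : IrrCharacter G, OddDeg (χ : G → ℂ) ∧
      classInner (fun k : K => (χ : G → ℂ) k) (fun k => (μ k : ℂ)) ≠ 0 := by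
  obtain ⟨χ, hχ, hne⟩ := exists_odd_constituent
    (isCharacter_indFun K (isCharacter_of_irr (isIrrCharacter_linear μ)))
    ⟨K.index, hK, by rw [indFun_apply_one]; simp⟩
  refine ⟨χ, hχ, fun h => hne ?_⟩
  rw [frobenius_reciprocity K _ (isClassFunction_irr χ.2), ← classInner_comm, h, map_zero]

/-- A linear constituent of a restriction is trivial on the kernel. -/
theorem linear_constituent_eq_one [Fintype G] {K : Subgroup G} [Fintype K] {χ : G → ℂ}
    (hχ : IsCharacter G χ) {μ : K →* ℂˣ}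
    (h : classInner (fun k : K => χ k) (fun k => (μ k : ℂ)) ≠ 0) {k : K} (hk : χ k = χ 1) :
    μ k = 1 := by
  by_contra hne
  apply h
  obtain ⟨n, ρ, rfl⟩ := hχ
  have hρ := rep_apply_eq_one_of_char_eq ρ hk
  have hs : ∑ a : K, ρ.character a * conj ((μ a : ℂ))
      = conj ((μ k : ℂ)) * ∑ a : K, ρ.character a * conj ((μ a : ℂ)) := by
    rw [Finset.mul_sum]
    refine (Fintype.sum_equiv (Equiv.mulLeft k) _ _ fun a => ?_).symm
    simp only [Equiv.coe_mulLeft, Subgroup.coe_mul, map_mul, Units.val_mul]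
    rw [show ρ.character ((k : G) * a) = ρ.character a by
      rw [Representation.character, map_mul, hρ, one_mul]; rfl]
    ring
  have h1 : conj ((μ k : ℂ)) ≠ 1 := fun e => hne (Units.ext (by
    simpa using congrArg conj e))
  have h0 : (conj ((μ k : ℂ)) - 1) * ∑ a : K, ρ.character a * conj ((μ a : ℂ)) = 0 := by
    rw [sub_mul, one_mul, ← hs, sub_self]
  rw [classInner, (mul_eq_zero.1 h0).resolve_left (sub_ne_zero.2 h1), mul_zero]

/-- An odd degree character of `G` restricted to a 2-group has a linear constituent. -/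
theorem exists_linear_constituent [Fintype G] (V : Subgroup G) [Fintype V] (hV : IsPGroup 2 V)
    {χ : IrrCharacter G} (hodd : OddDeg (χ : G → ℂ)) :
    ∃ μ : V →* ℂˣ, classInner (fun v : V => (χ : G → ℂ) v) (fun v => (μ v : ℂ)) ≠ 0 := by
  obtain ⟨φ, hφ, hne⟩ := exists_odd_constituent (isCharacter_restrict (isCharacter_of_irr χ.2) V)
    (by obtain ⟨d, hd, h⟩ := hodd; exact ⟨d, hd, h⟩)
  haveI := Fact.mk Nat.prime_two
  obtain ⟨k, hk⟩ := IsPGroup.iff_card.1 hV
  have hdvd := CfsgLib.Blocks.charDegree_dvd_card φ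
  rw [hk, Nat.dvd_prime_pow Nat.prime_two] at hdvd
  obtain ⟨j, -, hj⟩ := hdvd
  have hodd' := (oddDeg_iff φ).2 hφ
  rw [hj] at hodd'
  have hj0 : j = 0 := by
    rcases Nat.eq_zero_or_pos j with h | h
    · exact h
    · exact absurd hodd' (Nat.not_odd_iff_even.2 ((Nat.even_pow).2 ⟨even_two, h.ne'⟩))
  obtain ⟨μ, hμ⟩ := exists_hom_of_degree_one (isCharacter_of_irr φ.2) (by
    rw [← CfsgLib.Blocks.irr_charDegree_cast, hj, hj0, pow_zero, Nat.cast_one])
  exact ⟨μ, by rw [← hμ]; exact hne⟩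

/-- The orbit of an odd degree character's constituent has odd size. -/
theorem odd_orbit [Fintype G] (N : Subgroup G) [N.Normal] [Fintype N] {χ : IrrCharacter G}
    (hodd : OddDeg (χ : G → ℂ)) {θ : N → ℂ} (hθ : IsIrrCharacter N θ)
    (hc : classInner (fun n : N => (χ : G → ℂ) n) θ ≠ 0) : Odd (inertia N θ).index := by
  obtain ⟨d, hd, h⟩ := hodd
  obtain ⟨e, he⟩ := classInner_char_nat (isCharacter_restrict (isCharacter_of_irr χ.2) N)
    (isCharacter_of_irr hθ)
  obtain ⟨t, -, ht⟩ := irr_degree_pos hθ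
  have h1 := clifford_degree N χ.2 hθ hc
  rw [h, he, ht] at h1
  have h2 : d = e * (inertia N θ).index * t := by exact_mod_cast h1
  rw [h2, Nat.odd_mul, Nat.odd_mul] at hd
  exact hd.1.2

/-- A real character of odd degree has a real constituent on a normal subgroup. -/
theorem exists_real_constituent [Fintype G] (N : Subgroup G) [N.Normal] [Fintype N]
    {χ : IrrCharacter G} (hre : Re0 (χ : G → ℂ)) (hodd : OddDeg (χ : G → ℂ)) {θ : N → ℂ}
    (hθ : IsIrrCharacter N θ) (hc : classInner (fun n : N => (χ : G → ℂ) n) θ ≠ 0) :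
    ∃ g : G, Re0 (conjNormFun N g θ) := by
  classical
  have hself : (fun n => conj (θ n)) ∈ conjOrbit N θ := by
    obtain ⟨g, hg⟩ := exists_conj_of_constituents N χ.2 hθ (isIrrCharacter_conjChar hθ) hc (by
      intro h0
      apply hc
      have := congrArg conj h0
      rw [map_zero] at this
      rw [← this]
      simp only [classInner, map_mul, map_sum, map_inv₀, map_natCast, Complex.conj_conj]
      congr 1
      exact Finset.sum_congr rfl fun n _ => by rw [hre])
    exact (mem_conjOrbit N).2 ⟨g, hg⟩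
  have hcl : ∀ ψ ∈ conjOrbit N θ, (fun n => conj (ψ n)) ∈ conjOrbit N θ := by
    intro ψ hψ
    obtain ⟨a, rfl⟩ := (mem_conjOrbit N).1 hψ
    obtain ⟨b, hb⟩ := (mem_conjOrbit N).1 hself
    refine (mem_conjOrbit N).2 ⟨b * a, ?_⟩
    rw [conjNormFun_mul, hb]
    rfl
  let σ : Equiv.Perm {ψ // ψ ∈ conjOrbit N θ} :=
    Function.Involutive.toPerm (fun ψ => ⟨_, hcl ψ ψ.2⟩)
      fun ψ => Subtype.ext (funext fun n => Complex.conj_conj _)
  haveI := Fact.mk Nat.prime_two
  obtain ⟨ψ, hψ⟩ := Equiv.Perm.exists_fixed_point_of_prime (p := 2) (n := 1) (σ := σ) (by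
    rw [Fintype.card_coe, card_conjOrbit]
    exact fun h => (Nat.not_even_iff_odd.2 (odd_orbit N hodd hθ hc)) (even_iff_two_dvd.2 h)) (by
    rw [pow_one, pow_two]
    exact Equiv.ext fun ψ => Subtype.ext (funext fun n => Complex.conj_conj _))
  obtain ⟨g, hg⟩ := (mem_conjOrbit N).1 ψ.2
  refine ⟨g, fun n => ?_⟩
  rw [hg]
  exact congrFun (congrArg Subtype.val hψ) n

/-- If one constituent is trivial at all elements of a conjugation invariant set, so is `χ`. -/
theorem trivial_of_constituent [Fintype G] (N : Subgroup G) [N.Normal] [Fintype N]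
    {χ : G → ℂ} (hχ : IsIrrCharacter G χ) {θ : N → ℂ}
    (hθ : IsIrrCharacter N θ) (hc : classInner (fun n : N => χ n) θ ≠ 0) {x : N}
    (hx : ∀ g : G, conjNormFun N g θ x = θ 1) : χ x = χ 1 := by
  have h := clifford N hχ hθ hc
  have h1 := congrFun h x
  have h2 := congrFun h 1
  simp only [Pi.smul_apply, Finset.sum_apply] at h1 h2
  rw [h1, show χ 1 = χ ((1 : N) : G) from rfl, h2]
  congr 1
  refine Finset.sum_congr rfl fun ψ hψ => ?_
  obtain ⟨g, rfl⟩ := (mem_conjOrbit N).1 hψ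
  rw [hx, conjNormFun_apply_one]

/-- A real linear character is `±1`-valued. -/
theorem sq_eq_one_of_re0 [Finite G] {μ : G →* ℂˣ} (h : Re0 (fun g => (μ g : ℂ))) (g : G) :
    μ g * μ g = 1 := by
  apply Units.ext
  have hn : ‖(μ g : ℂ)‖ = 1 := Complex.norm_eq_one_of_pow_eq_one
    (by rw [← Units.val_pow_eq_pow_val, ← map_pow, pow_card_eq_one', map_one, Units.val_one])
    Nat.card_pos.ne'
  have h2 := Complex.mul_conj' (μ g : ℂ)
  have h3 : conj ((μ g : ℂ)) = (μ g : ℂ) := h g
  rw [h3, hn] at h2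
  simpa using h2

/-- A real odd degree character is trivial on an abelian normal subgroup of odd order. -/
theorem trivial_on_odd [Fintype G] (N : Subgroup G) [N.Normal] [Fintype N]
    (hab : ∀ a b : N, a * b = b * a) (hodd' : Odd (Nat.card N)) {χ : IrrCharacter G}
    (hre : Re0 (χ : G → ℂ)) (hodd : OddDeg (χ : G → ℂ)) (n : G) (hn : n ∈ N) :
    (χ : G → ℂ) n = (χ : G → ℂ) 1 := by
  obtain ⟨θ, hθ, hc⟩ := exists_constituent (isCharacter_restrict (isCharacter_of_irr χ.2) N)
    (fun h => irr_ne_zero χ.2 (by simpa using congrFun h 1))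
  obtain ⟨g, hg⟩ := exists_real_constituent N hre hodd hθ hc
  have hc' : classInner (fun n : N => (χ : G → ℂ) n) (conjNormFun N g θ) ≠ 0 := by
    rwa [classInner_res_conjNormFun N g (isClassFunction_irr χ.2)]
  have hgi := isIrr_conjNormFun N g hθ
  obtain ⟨μ, hμ⟩ := exists_hom_of_degree_one (isCharacter_of_irr hgi) (degree_one_of_commutative hab hgi)
  have hone : ∀ a : N, μ a = 1 := by
    intro a
    have h2 : μ a * μ a = 1 := sq_eq_one_of_re0 (by rw [← hμ]; exact hg) a
    obtain ⟨j, hj⟩ := exists_pow_eq_self_of_coprime (n := 2) (x := a) (Nat.coprime_two_left.2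
      (hodd'.of_dvd_nat (orderOf_dvd_natCard a)))
    rw [← hj, map_pow, map_pow, pow_two, h2, one_pow]
  refine trivial_of_constituent N χ.2 hgi hc' (x := ⟨n, hn⟩) fun k => ?_
  rw [hμ]
  show (μ _ : ℂ) = (μ _ : ℂ)
  rw [hone, hone]

end CfsgLib.RealOdd
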