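import Cfsg.Agent.Lib.RealOdd.Inertia

/-! # Counting real odd degree characters through the fixed linear characters. -/

set_option autoImplicit false

namespace CfsgLib.RealOdd

open Cfsg CfsgLib.CharTheory
open scoped ComplexConjugate

universe u

variable {H : Type u} [Group H] [Fintype H] (U : Subgroup H) [hUn : U.Normal] [Fintype U]

/-- The conjugate linear character. -/
def cj (g : H) (l : U →* ℂˣ) : U →* ℂˣ := l.comp (MulAut.conjNormal g).toMonoidHom

theorem lf_cj (g : H) (l : U →* ℂˣ) : lf (cj U g l) = conjNormFun U g (lf l) := by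
  rw [conjNormFun_eq]; rfl

theorem cj_mul (a b : H) (l : U →* ℂˣ) : cj U (a * b) l = cj U b (cj U a l) :=
  lf_injective (by simp only [lf_cj, conjNormFun_mul])

theorem mem_tI {g : H} {l : U →* ℂˣ} : g ∈ tI U l ↔ cj U g l = l := by
  rw [mem_inertia, ← lf_cj]
  exact lf_injective.eq_iff

theorem mem_tI_cj {g a : H} {l : U →* ℂˣ} : g ∈ tI U (cj U a l) ↔ a * g * a⁻¹ ∈ tI U l := by
  rw [mem_tI, mem_tI, ← cj_mul]
  constructor
  · intro h
    rw [cj_mul, h, ← cj_mul, mul_inv_cancel]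
    exact lf_injective (by simp only [lf_cj, conjNormFun_one])
  · intro h
    conv_lhs => rw [show a * g = a * g * a⁻¹ * a by group, cj_mul, h]

theorem exists_over (hUc : ∀ a b : U, a * b = b * a) (χ : IrrCharacter H) :
    ∃ l, Over U (χ : H → ℂ) l := by
  obtain ⟨θ, hθ, hc⟩ := exists_constituent (isCharacter_restrict (isCharacter_of_irr χ.2) U)
    (fun h => irr_ne_zero χ.2 (by simpa using congrFun h 1))
  obtain ⟨l, rfl⟩ := exists_hom_of_degree_one (isCharacter_of_irr hθ) (degree_one_of_commutative hUc hθ)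
  exact ⟨l, hc⟩

theorem over_cj (χ : IrrCharacter H) (g : H) {l : U →* ℂˣ} (h : Over U (χ : H → ℂ) l) :
    Over U (χ : H → ℂ) (cj U g l) := by
  rw [Over, lf_cj, classInner_res_conjNormFun U g (isClassFunction_irr χ.2)]
  exact h

theorem over_conj (χ : IrrCharacter H) {l l' : U →* ℂˣ} (h : Over U (χ : H → ℂ) l)
    (h' : Over U (χ : H → ℂ) l') : ∃ g, cj U g l = l' := by
  obtain ⟨g, hg⟩ := exists_conj_of_constituents U χ.2 (lf_irr l) (lf_irr l') h h'
  exact ⟨g, lf_injective (by rw [lf_cj]; exact hg)⟩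

theorem index_tI_odd (P : Sylow 2 H) {l : U →* ℂˣ} (h : (P : Subgroup H) ≤ tI U l) :
    Odd (tI U l).index := by
  haveI := Fact.mk Nat.prime_two
  have h1 : Odd (P : Subgroup H).index :=
    Nat.not_even_iff_odd.1 fun e => P.not_dvd_index e.two_dvd
  exact h1.of_dvd_nat (Subgroup.index_dvd_of_le h)

theorem exists_fixed_over (hUc : ∀ a b : U, a * b = b * a) (P : Sylow 2 H) (χ : IrrCharacter H)
    (hodd : OddDeg (χ : H → ℂ)) :
    ∃ l, Over U (χ : H → ℂ) l ∧ (P : Subgroup H) ≤ tI U l := by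
  obtain ⟨l, hl⟩ := exists_over U hUc χ
  haveI := Fact.mk Nat.prime_two
  obtain ⟨q, hq⟩ := P.isPGroup'.nonempty_fixed_point_of_prime_not_dvd_card (H ⧸ tI U l) (by
    rw [← Subgroup.index_eq_card]
    exact fun h => (Nat.not_even_iff_odd.2 (odd_orbit U hodd (lf_irr l) hl)) (even_iff_two_dvd.2 h))
  obtain ⟨g, rfl⟩ := QuotientGroup.mk_surjective q
  refine ⟨cj U g⁻¹ l, over_cj U χ g⁻¹ hl, fun x hx => ?_⟩
  rw [mem_tI_cj, inv_inv]
  have h2 : ((x * g : H) : H ⧸ tI U l) = (g : H ⧸ tI U l) := hq ⟨x, hx⟩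
  rw [eq_comm, QuotientGroup.eq] at h2
  rwa [mul_assoc]

theorem fixed_conj (P : Sylow 2 H) (χ : IrrCharacter H) {l l' : U →* ℂˣ}
    (h : Over U (χ : H → ℂ) l) (hP : (P : Subgroup H) ≤ tI U l)
    (h' : Over U (χ : H → ℂ) l') (hP' : (P : Subgroup H) ≤ tI U l') :
    ∃ n ∈ Subgroup.normalizer ((P : Subgroup H) : Set H), cj U n l = l' := by
  haveI := Fact.mk Nat.prime_two
  obtain ⟨a, rfl⟩ := over_conj U χ h h'
  let P2 : Sylow 2 H := (MulAut.conj a : MulAut H) • P
  have hP2 : (P2 : Subgroup H) ≤ tI U l := by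
    intro y hy
    obtain ⟨x, hx, rfl⟩ := hy
    exact (mem_tI_cj U).1 (hP' hx)
  obtain ⟨s, hs⟩ := MulAction.exists_smul_eq (tI U l) (P2.subtype hP2) (P.subtype hP)
  have hs' : ((s : H) * a) • P = P := by
    have := congrArg (fun Q : Sylow 2 (tI U l) => (Q : Subgroup (tI U l)).map (tI U l).subtype) hs
    simp only [Sylow.smul_subtype, Sylow.coe_subtype, Subgroup.map_subgroupOf_eq_of_le hP,
      Subgroup.subgroupOf_map_subtype] at this
    have hle : ((s • P2 : Sylow 2 H) : Subgroup H) ≤ tI U l := Sylow.smul_le hP2 s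
    refine Sylow.ext ?_
    rw [mul_smul]
    first
      | exact this
      | rwa [inf_eq_left.2 hle] at this
  refine ⟨(s : H) * a, Sylow.smul_eq_iff_mem_normalizer.1 hs', ?_⟩
  rw [cj_mul, (mem_tI U).1 s.2]

open scoped Classical in
/-- The weights of the fixed constituents of one character add up to the order of the normalizer. -/
theorem sum_weights [Fintype (U →* ℂˣ)] (hUc : ∀ a b : U, a * b = b * a) (P : Sylow 2 H)
    (χ : IrrCharacter H) (hodd : OddDeg (χ : H → ℂ)) :
    ∑ l ∈ Finset.univ.filter (fun l : U →* ℂˣ => (P : Subgroup H) ≤ tI U l ∧ Over U (χ : H → ℂ) l),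
        Nat.card (Subgroup.normalizer ((P : Subgroup H) : Set H) ⊓ tI U l : Subgroup H)
      = Nat.card (Subgroup.normalizer ((P : Subgroup H) : Set H)) := by
  obtain ⟨l0, hl0, hP0⟩ := exists_fixed_over U hUc P χ hodd
  set N := Subgroup.normalizer ((P : Subgroup H) : Set H) with hN
  have hmap : ∀ n : N, (P : Subgroup H) ≤ tI U (cj U n l0) := by
    intro n x hx
    rw [mem_tI_cj]
    exact hP0 ((Subgroup.mem_normalizer_iff.1 n.2 x).1 hx)
  rw [Nat.card_eq_fintype_card (α := N), ← Finset.card_univ,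
    Finset.card_eq_sum_card_fiberwise (f := fun n : N => cj U (n : H) l0)
      (t := Finset.univ.filter (fun l : U →* ℂˣ => (P : Subgroup H) ≤ tI U l ∧ Over U (χ : H → ℂ) l))
      (fun n _ => Finset.mem_filter.2 ⟨Finset.mem_univ _, hmap n, over_cj U χ n hl0⟩)]
  refine Finset.sum_congr rfl fun l hl => ?_
  obtain ⟨-, hlP, hlo⟩ := Finset.mem_filter.1 hl
  obtain ⟨n0, hn0, hn0e⟩ := fixed_conj U P χ hl0 hP0 hlo hlP
  rw [Nat.card_eq_fintype_card, ← Fintype.card_subtype]
  refine Fintype.card_congr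
    { toFun := fun t => ⟨⟨n0 * (t : H), N.mul_mem hn0 (Subgroup.mem_inf.1 t.2).1⟩, by
        show cj U (n0 * (t : H)) l0 = l
        rw [cj_mul, hn0e, (mem_tI U).1 (Subgroup.mem_inf.1 t.2).2]⟩
      invFun := fun x => ⟨n0⁻¹ * ((x.1 : N) : H), Subgroup.mem_inf.2
        ⟨N.mul_mem (N.inv_mem hn0) x.1.2, by
          rw [mem_tI]
          refine (congrArg (cj U _) hn0e.symm).trans ?_
          rw [← cj_mul, mul_inv_cancel_left]
          exact x.2⟩⟩
      left_inv := fun t => Subtype.ext (by simp)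
      right_inv := fun x => Subtype.ext (Subtype.ext (by simp)) }

variable (X : Subgroup H) (π : H →* X) (hπX : ∀ x : X, π x = x) (hπU : ∀ h : H, π h = 1 ↔ h ∈ U)

include hπX hπU in
open scoped Classical in
/-- The counting formula. -/
theorem card_mul_rcount [Fintype (U →* ℂˣ)] (h2 : ∀ u : U, u * u = 1) (P : Sylow 2 H) :
    Nat.card (Subgroup.normalizer ((P : Subgroup H) : Set H)) * rcount H =
      ∑ l ∈ Finset.univ.filter (fun l : U →* ℂˣ => (P : Subgroup H) ≤ tI U l),
        Nat.card (Subgroup.normalizer ((P : Subgroup H) : Set H) ⊓ tI U l : Subgroup H)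
          * rcount (X ⊓ tI U l : Subgroup H) := by
  have hinv : ∀ a : U, a⁻¹ = a := fun a => inv_eq_of_mul_eq_one_right (h2 a)
  have hUc : ∀ a b : U, a * b = b * a := fun a b => by
    calc a * b = (a * b)⁻¹ := (hinv _).symm
      _ = b * a := by rw [_root_.mul_inv_rev, hinv, hinv]
  haveI := Fintype.ofFinite {χ : IrrCharacter H // Re0 (χ : H → ℂ) ∧ OddDeg (χ : H → ℂ)}
  have h1 : ∀ l : U →* ℂˣ, (P : Subgroup H) ≤ tI U l →
      rcount (X ⊓ tI U l : Subgroup H) = (Finset.univ.filter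
        (fun χ : {χ : IrrCharacter H // Re0 (χ : H → ℂ) ∧ OddDeg (χ : H → ℂ)} =>
          Over U (χ.1 : H → ℂ) l)).card := by
    intro l hl
    rw [← card_over U X π hπX hπU h2 l (index_tI_odd U P hl), ← Fintype.card_subtype,
      ← Nat.card_eq_fintype_card]
    exact Nat.card_congr (Equiv.subtypeSubtypeEquivSubtypeInter
      (fun χ : IrrCharacter H => Re0 (χ : H → ℂ) ∧ OddDeg (χ : H → ℂ))
      (fun χ : IrrCharacter H => Over U (χ : H → ℂ) l)).symm
  rw [Finset.sum_congr rfl (fun l hl => by rw [h1 l (Finset.mem_filter.1 hl).2, mul_comm,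
    ← smul_eq_mul, ← Finset.sum_const, Finset.sum_filter])]
  rw [Finset.sum_comm, rcount, Nat.card_eq_fintype_card (α := {χ : IrrCharacter H // _}),
    ← Finset.card_univ, mul_comm, ← smul_eq_mul, ← Finset.sum_const]
  refine Finset.sum_congr rfl fun χ _ => ?_
  rw [← sum_weights U hUc P χ.1 χ.2.2, ← Finset.sum_filter, Finset.filter_filter]

end CfsgLib.RealOdd
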