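import Cfsg.Agent.Lib.RealOdd.Basic

/-! # Characters over a linear character of a complemented normal subgroup of exponent two. -/

set_option autoImplicit false

namespace CfsgLib.RealOdd

open Cfsg CfsgLib.CharTheory
open scoped ComplexConjugate

universe u

variable {H : Type u} [Group H] [Fintype H]

/-- The function of a homomorphism. -/
def lf {U : Subgroup H} (l : U →* ℂˣ) : U → ℂ := fun u => (l u : ℂ)

theorem lf_injective {U : Subgroup H} : Function.Injective (lf : (U →* ℂˣ) → (U → ℂ)) :=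
  fun _ _ h => MonoidHom.ext fun u => Units.ext (congrFun h u)

theorem lf_irr {U : Subgroup H} (l : U →* ℂˣ) : IsIrrCharacter U (lf l) := isIrrCharacter_linear l

variable (U : Subgroup H) [hUn : U.Normal] [Fintype U]

/-- The inertia group of a linear character. -/
abbrev tI (l : U →* ℂˣ) : Subgroup H := inertia U (lf l)

theorem le_tI (l : U →* ℂˣ) : U ≤ tI U l :=
  le_inertia U (isClassFunction_irr (lf_irr l))

theorem lf_real (h2 : ∀ u : U, u * u = 1) (l : U →* ℂˣ) (u : U) : conj (lf l u) = lf l u := by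
  have h : (lf l u) * (lf l u) = 1 := by
    simp only [lf, ← Units.val_mul, ← map_mul, h2, map_one, Units.val_one]
  rcases mul_self_eq_one_iff.1 h with e | e <;> rw [e] <;> simp

variable (X : Subgroup H) (π : H →* X) (hπX : ∀ x : X, π x = x) (hπU : ∀ h : H, π h = 1 ↔ h ∈ U)

include hπX hπU in
theorem div_mem (h : H) : h * ((π h : X) : H)⁻¹ ∈ U := by
  rw [← hπU, map_mul, map_inv, hπX, mul_inv_cancel]

include hπX hπU in
theorem proj_mem {T : Subgroup H} (hUT : U ≤ T) {h : H} (hh : h ∈ T) : ((π h : X) : H) ∈ T := by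
  have h1 := T.mul_mem (T.inv_mem (hUT (div_mem U X π hπX hπU h))) hh
  simpa [mul_assoc] using h1

/-- The projection onto the complement inside a subgroup containing `U`. -/
noncomputable def projT {T : Subgroup H} (hUT : U ≤ T) : T →* (X ⊓ T : Subgroup H) where
  toFun t := ⟨((π (t : H) : X) : H), Subgroup.mem_inf.2 ⟨(π (t : H)).2, proj_mem U X π hπX hπU hUT t.2⟩⟩
  map_one' := Subtype.ext (by simp)
  map_mul' a b := Subtype.ext (by simp)

theorem projT_self {T : Subgroup H} (hUT : U ≤ T) (s : (X ⊓ T : Subgroup H)) :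
    projT U X π hπX hπU hUT (Subgroup.inclusion inf_le_right s) = s :=
  Subtype.ext (congrArg (fun x : X => (x : H)) (hπX ⟨(s : H), (Subgroup.mem_inf.1 s.2).1⟩) :
    ((π (s : H) : X) : H) = (s : H))

theorem projT_surjective {T : Subgroup H} (hUT : U ≤ T) :
    Function.Surjective (projT U X π hπX hπU hUT) :=
  fun s => ⟨_, projT_self U X π hπX hπU hUT s⟩

/-- The extension of `l` to its inertia group. -/
noncomputable def ext' (l : U →* ℂˣ) : tI U l →* ℂˣ where
  toFun t := l ⟨(t : H) * ((π (t : H) : X) : H)⁻¹, div_mem U X π hπX hπU t⟩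
  map_one' := by simp [show (⟨(1 : H), U.one_mem⟩ : U) = 1 from rfl]
  map_mul' a b := by
    have hx : ((π (a : H) : X) : H) ∈ tI U l := proj_mem U X π hπX hπU (le_tI U l) a.2
    have hinv := congrFun ((mem_inertia U).1 hx) ⟨(b : H) * ((π (b : H) : X) : H)⁻¹, div_mem U X π hπX hπU b⟩
    simp only [conjNormFun, lf] at hinv
    rw [← Units.ext hinv, ← map_mul]
    congr 1
    apply Subtype.ext
    simp [mul_assoc]

theorem ext'_res (l : U →* ℂˣ) (u : U) :
    ext' U X π hπX hπU l ⟨(u : H), le_tI U l u.2⟩ = l u := by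
  show l _ = l u
  congr 1
  apply Subtype.ext
  simp [(hπU _).2 u.2]

theorem ext'_real (h2 : ∀ u : U, u * u = 1) (l : U →* ℂˣ) (t : tI U l) :
    conj ((ext' U X π hπX hπU l t : ℂˣ) : ℂ) = (ext' U X π hπX hπU l t : ℂ) :=
  lf_real U h2 l _

/-- The character of the inertia group attached to a character of the complement. -/
noncomputable def attach (l : U →* ℂˣ) (β : (X ⊓ tI U l : Subgroup H) → ℂ) : tI U l → ℂ :=
  (fun t => β (projT U X π hπX hπU (le_tI U l) t)) * fun t => (ext' U X π hπX hπU l t : ℂ)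

theorem attach_irr (l : U →* ℂˣ) {β : (X ⊓ tI U l : Subgroup H) → ℂ}
    (hβ : IsIrrCharacter (X ⊓ tI U l : Subgroup H) β) :
    IsIrrCharacter (tI U l) (attach U X π hπX hπU l β) := by
  haveI := Fintype.ofFinite (tI U l)
  refine isIrrCharacter_mul_linear (isIrrCharacter_comp_surjective hβ _
    (projT_surjective U X π hπX hπU (le_tI U l))) (isIrrCharacter_linear _) ?_
  simp

theorem attach_over (l : U →* ℂˣ) {β : (X ⊓ tI U l : Subgroup H) → ℂ}
    (hβ : IsIrrCharacter (X ⊓ tI U l : Subgroup H) β) :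
    classInner (fun n : U => attach U X π hπX hπU l β ⟨n, le_tI U l n.2⟩) (lf l) ≠ 0 := by
  have e : (fun n : U => attach U X π hπX hπU l β ⟨n, le_tI U l n.2⟩) = β 1 • lf l := by
    funext n
    simp only [attach, Pi.mul_apply, Pi.smul_apply, smul_eq_mul, ext'_res, lf]
    congr 2
    apply Subtype.ext
    simp [projT, (hπU _).2 n.2]
  haveI := Fintype.ofFinite (X ⊓ tI U l : Subgroup H)
  rw [e, classInner_smul_left, classInner_irr_self (lf_irr l), mul_one]
  exact irr_ne_zero hβ

theorem attach_surjective (l : U →* ℂˣ) {ψ : tI U l → ℂ} (hψ : IsIrrCharacter (tI U l) ψ)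
    (hc : classInner (fun n : U => ψ ⟨n, le_tI U l n.2⟩) (lf l) ≠ 0) :
    ∃ β, IsIrrCharacter (X ⊓ tI U l : Subgroup H) β ∧ ψ = attach U X π hπX hπU l β := by
  haveI := Fintype.ofFinite (tI U l)
  haveI := Fintype.ofFinite (U.subgroupOf (tI U l))
  have hres : (fun n : U.subgroupOf (tI U l) => ((ext' U X π hπX hπU l (n : tI U l) : ℂˣ) : ℂ))
      = fun n : U.subgroupOf (tI U l) => lf l ⟨((n : tI U l) : H), Subgroup.mem_subgroupOf.1 n.2⟩ := by
    funext n
    exact congrArg Units.val (ext'_res U X π hπX hπU l ⟨_, Subgroup.mem_subgroupOf.1 n.2⟩)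
  obtain ⟨-, -, h3⟩ := gallagher (U.subgroupOf (tI U l))
    (isCharacter_of_irr (isIrrCharacter_linear (ext' U X π hπX hπU l)))
    (by rw [hres]; exact isIrr_subgroupOf U (le_tI U l) (lf_irr l))
  obtain ⟨β', hβ', hker, e⟩ := h3 ψ hψ (by
    rw [hres, classInner_subgroupOf U (le_tI U l)]; exact hc)
  obtain ⟨m, ρ, hρ, rfl⟩ := hβ'
  have hfac : ∀ t, ρ t = ρ (Subgroup.inclusion inf_le_right (projT U X π hπX hπU (le_tI U l) t)) := by
    intro t
    have hn : (⟨(t : H) * ((π (t : H) : X) : H)⁻¹,
        le_tI U l (div_mem U X π hπX hπU t)⟩ : tI U l) ∈ U.subgroupOf (tI U l) :=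
      div_mem U X π hπX hπU t
    have h1 := rep_apply_eq_one_of_char_eq ρ (hker _ hn)
    conv_lhs => rw [show t = (⟨(t : H) * ((π (t : H) : X) : H)⁻¹,
        le_tI U l (div_mem U X π hπX hπU t)⟩ : tI U l) *
        Subgroup.inclusion inf_le_right (projT U X π hπX hπU (le_tI U l) t) from
      Subtype.ext (by simp [projT, mul_assoc])]
    rw [map_mul, h1, one_mul]
  let σ : Representation ℂ (X ⊓ tI U l : Subgroup H) (Fin m → ℂ) :=
    ρ.comp (Subgroup.inclusion inf_le_right)
  let e' : Subrepresentation σ ≃o Subrepresentation ρ :=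
    { toFun := fun p => ⟨p.toSubmodule, fun t v hv => by
        rw [hfac]; exact p.apply_mem_toSubmodule _ hv⟩
      invFun := fun q => ⟨q.toSubmodule, fun s v hv => q.apply_mem_toSubmodule _ hv⟩
      left_inv := fun _ => rfl
      right_inv := fun _ => rfl
      map_rel_iff' := Iff.rfl }
  refine ⟨σ.character, ⟨m, σ, (OrderIso.isSimpleOrder_iff e').mpr hρ, rfl⟩, ?_⟩
  rw [e]
  funext t
  simp only [attach, Pi.mul_apply]
  congr 1
  rw [Representation.character, hfac]
  rfl

theorem attach_real (h2 : ∀ u : U, u * u = 1) (l : U →* ℂˣ) (β : (X ⊓ tI U l : Subgroup H) → ℂ) :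
    Re0 (attach U X π hπX hπU l β) ↔ Re0 β := by
  constructor
  · intro h s
    obtain ⟨t, rfl⟩ := projT_surjective U X π hπX hπU (le_tI U l) s
    have := h t
    simp only [attach, Pi.mul_apply, map_mul, ext'_real U X π hπX hπU h2] at this
    exact mul_right_cancel₀ (Units.ne_zero _) this
  · intro h t
    simp only [attach, Pi.mul_apply, map_mul, ext'_real U X π hπX hπU h2, h _]

theorem attach_oddDeg (l : U →* ℂˣ) (β : (X ⊓ tI U l : Subgroup H) → ℂ) :
    OddDeg (attach U X π hπX hπU l β) ↔ OddDeg β := by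
  simp [OddDeg, attach]

theorem attach_injective (l : U →* ℂˣ) : Function.Injective (attach U X π hπX hπU l) := by
  intro a b h
  funext s
  obtain ⟨t, rfl⟩ := projT_surjective U X π hπX hπU (le_tI U l) s
  exact mul_right_cancel₀ (Units.ne_zero _) (congrFun h t)

theorem conj_indFun {K : Subgroup H} (f : K → ℂ) (g : H) :
    conj (indFun K f g) = indFun K (fun k => conj (f k)) g := by
  simp only [indFun, map_mul, map_sum, map_inv₀, map_natCast]
  congr 1
  refine Finset.sum_congr rfl fun x _ => ?_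
  by_cases hx : x⁻¹ * g * x ∈ K
  · rw [extendByZero_of_mem K _ hx, extendByZero_of_mem K _ hx]
  · rw [extendByZero_of_not_mem K _ hx, extendByZero_of_not_mem K _ hx, map_zero]

/-- `χ` lies over `l`. -/
def Over (χ : H → ℂ) (l : U →* ℂˣ) : Prop := classInner (fun n : U => χ n) (lf l) ≠ 0

include hπX hπU in
/-- Over a linear character with inertia group of odd index: the real characters of odd degree. -/
theorem card_over (h2 : ∀ u : U, u * u = 1) (l : U →* ℂˣ) (hodd : Odd (tI U l).index) :
    Nat.card {χ : IrrCharacter H // (Re0 (χ : H → ℂ) ∧ OddDeg (χ : H → ℂ)) ∧ Over U (χ : H → ℂ) l}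
      = rcount (X ⊓ tI U l : Subgroup H) := by
  classical
  haveI := Fintype.ofFinite (tI U l)
  let F : {β : IrrCharacter (X ⊓ tI U l : Subgroup H) // Re0 (β : (X ⊓ tI U l : Subgroup H) → ℂ) ∧ OddDeg (β : (X ⊓ tI U l : Subgroup H) → ℂ)} →
      {χ : IrrCharacter H // (Re0 (χ : H → ℂ) ∧ OddDeg (χ : H → ℂ)) ∧ Over U (χ : H → ℂ) l} :=
    fun β =>
      ⟨⟨indFun (tI U l) (attach U X π hπX hπU l β.1.1),
        (clifford_correspondence U (lf_irr l) (le_tI U l) rfl (attach_irr U X π hπX hπU l β.1.2)
          (attach_over U X π hπX hπU l β.1.2)).1⟩,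
       ⟨fun g => by
          rw [conj_indFun]
          exact congrFun (congrArg (indFun (tI U l)) (funext fun t =>
            (attach_real U X π hπX hπU h2 l _).2 β.2.1 t)) g,
        by
          obtain ⟨d, hd, h⟩ := (attach_oddDeg U X π hπX hπU l β.1.1).2 β.2.2
          exact ⟨(tI U l).index * d, hodd.mul hd, by
            show indFun (tI U l) _ 1 = _
            rw [indFun_apply_one, h, Nat.cast_mul]⟩⟩,
       by
        show classInner (fun n : U => indFun (tI U l) (attach U X π hπX hπU l β.1.1) n) (lf l) ≠ 0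
        rw [(clifford_correspondence U (lf_irr l) (le_tI U l) rfl (attach_irr U X π hπX hπU l β.1.2)
          (attach_over U X π hπX hπU l β.1.2)).2]
        exact attach_over U X π hπX hπU l β.1.2⟩
  refine (Nat.card_congr (Equiv.ofBijective F ⟨fun a b h => ?_, fun χ => ?_⟩)).symm
  · have h1 : indFun (tI U l) (attach U X π hπX hπU l a.1.1)
        = indFun (tI U l) (attach U X π hπX hπU l b.1.1) :=
      congrArg (fun x => (x.1.1 : H → ℂ)) h
    exact Subtype.ext (Subtype.ext (attach_injective U X π hπX hπU l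
      (clifford_correspondence_inj U (lf_irr l) (le_tI U l) rfl (attach_irr U X π hπX hπU l a.1.2)
        (attach_irr U X π hπX hπU l b.1.2) (attach_over U X π hπX hπU l a.1.2)
        (attach_over U X π hπX hπU l b.1.2) h1)))
  · obtain ⟨ψ, hψ, hc, e⟩ := exists_clifford_pre U (lf_irr l) (le_tI U l) rfl χ.1.2 χ.2.2
    obtain ⟨β, hβ, rfl⟩ := attach_surjective U X π hπX hπU l hψ hc
    have hre : Re0 (attach U X π hπX hπU l β) := by
      refine fun t => congrFun (clifford_correspondence_inj U (lf_irr l) (le_tI U l) rfl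
        (isIrrCharacter_conjChar hψ) hψ ?_ hc (funext fun g => ?_)) t
      · intro h0
        apply hc
        have := congrArg conj h0
        rw [map_zero] at this
        rw [← this]
        simp only [classInner, map_mul, map_sum, map_inv₀, map_natCast, Complex.conj_conj]
        congr 1
        exact Finset.sum_congr rfl fun n _ => by rw [lf_real U h2]
      · rw [← conj_indFun, e]
        exact χ.2.1.1 g
    refine ⟨⟨⟨β, hβ⟩, (attach_real U X π hπX hπU h2 l β).1 hre, ?_⟩,
      Subtype.ext (Subtype.ext e)⟩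
    rw [← attach_oddDeg U X π hπX hπU l β]
    obtain ⟨d, hd, h1⟩ := χ.2.1.2
    obtain ⟨k, -, hk⟩ := irr_degree_pos hψ
    refine ⟨k, ?_, hk⟩
    rw [← e, indFun_apply_one, hk] at h1
    have : (tI U l).index * k = d := by exact_mod_cast h1
    rw [← this, Nat.odd_mul] at hd
    exact hd.2

end CfsgLib.RealOdd
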