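import Cfsg.Agent.Lib.RealOdd.Semidirect
import Cfsg.Agent.Lib.Glauberman.Solvable

/-! # Gow's count of real odd degree characters in solvable groups. -/

set_option autoImplicit false

namespace CfsgLib.RealOdd

open Cfsg CfsgLib.CharTheory
open scoped ComplexConjugate commutatorElement

universe u

variable {H : Type u} [Group H] [Fintype H]

theorem commutator_hom_eq_one {G : Type u} [Group G] {A : Subgroup G} (μ : A →* ℂˣ) {x : A}
    (hx : (x : G) ∈ ⁅A, A⁆) : μ x = 1 := by
  rw [← Subgroup.map_subtype_commutator] at hx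
  obtain ⟨y, hy, e⟩ := hx
  rw [show x = y from Subtype.ext e.symm]
  exact Abelianization.commutator_subset_ker μ hy

/-- Trivial on the norm, and of order prime to the group of operators: trivial. -/
theorem norm_trick {A : Type u} [CommGroup A] [Finite A] {ι : Type u} [Fintype ι]
    (f : ι → A →* A) (l : A →* ℂˣ) (hl : ∀ i a, l (f i a) = l a)
    (hfix : ∀ a, ∏ i, f i a = 1) (hcop : (Fintype.card ι).Coprime (Nat.card A)) (a : A) :
    l a = 1 := by
  have h1 : l a ^ Fintype.card ι = 1 := by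
    have := congrArg l (hfix a)
    rwa [map_prod, map_one, Finset.prod_congr rfl (fun i _ => hl i a), Finset.prod_const,
      Finset.card_univ] at this
  have h2 : l a ^ Nat.card A = 1 := by rw [← map_pow, pow_card_eq_one', map_one]
  have := pow_gcd_eq_one.2 ⟨h1, h2⟩
  rwa [hcop.gcd_eq_one, pow_one] at this

section OddStep

variable (A : Subgroup H) [hAn : A.Normal] (hab : ∀ a b : A, a * b = b * a)
  (hodd : Odd (Nat.card A)) (hA : A ≠ ⊥) (P : Sylow 2 H)

include hab hodd in
theorem odd_kills (χ : IrrCharacter H) (hr : Re0 (χ : H → ℂ)) (ho : OddDeg (χ : H → ℂ)) :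
    ∀ n ∈ A, (χ : H → ℂ) n = (χ : H → ℂ) 1 := by
  haveI := Fintype.ofFinite A
  exact fun n hn => trivial_on_odd A hab hodd hr ho n hn

include hodd in
omit [A.Normal] in
theorem inf_sylow_eq_bot {x : H} (hx : x ∈ A) (hxP : x ∈ (P : Subgroup H)) : x = 1 := by
  haveI := Fact.mk Nat.prime_two
  obtain ⟨k, hk⟩ := P.isPGroup' ⟨x, hxP⟩
  have h1 : orderOf x ∣ 2 ^ k := orderOf_dvd_of_pow_eq_one (congrArg Subtype.val hk)
  obtain ⟨j, -, hj⟩ := (Nat.dvd_prime_pow Nat.prime_two).1 h1
  have h2 : Odd (orderOf x) := hodd.of_dvd_nat (Subgroup.orderOf_dvd_natCard _ hx)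
  rw [hj] at h2
  rcases Nat.eq_zero_or_pos j with h | h
  · rw [← orderOf_eq_one_iff, hj, h, pow_zero]
  · exact absurd h2 (Nat.not_odd_iff_even.2 ((Nat.even_pow).2 ⟨even_two, h.ne'⟩))

include hab hodd in
/-- With a self-normalizing Sylow 2-subgroup the odd degree characters are trivial on `A`. -/
theorem odd_kills_all (hNP : Subgroup.normalizer ((P : Subgroup H) : Set H) = (P : Subgroup H))
    (χ : IrrCharacter H) (ho : OddDeg (χ : H → ℂ)) : ∀ n ∈ A, (χ : H → ℂ) n = (χ : H → ℂ) 1 := by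
  classical
  haveI := Fact.mk Nat.prime_two
  haveI := Fintype.ofFinite A
  haveI := Fintype.ofFinite (P : Subgroup H)
  obtain ⟨l, hl, hPT⟩ := exists_fixed_over A hab P χ ho
  letI : CommGroup A := { (inferInstance : Group A) with mul_comm := hab }
  have hone : ∀ a : A, l a = 1 := by
    intro a
    refine norm_trick (fun x : (P : Subgroup H) => (MulAut.conjNormal (x : H) : A ≃* A).toMonoidHom)
      l (fun x b => ?_) (fun b => ?_) ?_ a
    · exact DFunLike.congr_fun ((mem_tI A).1 (hPT x.2)) b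
    · set c : A := ∏ x : (P : Subgroup H), (MulAut.conjNormal (x : H) : A ≃* A).toMonoidHom b
      have hfix : ∀ y ∈ (P : Subgroup H), (MulAut.conjNormal y : A ≃* A) c = c := by
        intro y hy
        simp only [c, map_prod]
        refine Fintype.prod_equiv (Equiv.mulLeft (⟨y, hy⟩ : (P : Subgroup H))) _ _ fun x => ?_
        simp
      have hcN : (c : H) ∈ Subgroup.normalizer ((P : Subgroup H) : Set H) := by
        rw [Subgroup.mem_normalizer_iff]
        have hcomm : ∀ y ∈ (P : Subgroup H), (c : H) * y = y * (c : H) := by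
          intro y hy
          have h := congrArg Subtype.val (hfix y hy)
          rw [MulAut.conjNormal_apply] at h
          exact (mul_inv_eq_iff_eq_mul.1 h).symm
        intro y
        constructor
        · intro hy; rw [hcomm y hy, mul_inv_cancel_right]; exact hy
        · intro hy
          have := hcomm _ hy
          have e : (c : H) * y * (c : H)⁻¹ = y := by
            have h' : (c : H) * ((c : H) * y * (c : H)⁻¹) = (c : H) * y := by
              rw [this]; group
            exact mul_left_cancel h'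
          rwa [e] at hy
      rw [hNP] at hcN
      exact Subtype.ext (inf_sylow_eq_bot A hodd P c.2 hcN)
    · obtain ⟨k, hk⟩ := IsPGroup.iff_card.1 P.isPGroup'
      rw [← Nat.card_eq_fintype_card, hk]
      exact Nat.Coprime.pow_left _ (Nat.coprime_two_left.2 hodd)
  intro n hn
  refine trivial_of_constituent A χ.2 (lf_irr l) hl (x := ⟨n, hn⟩) fun g => ?_
  rw [← lf_cj]
  simp [lf, cj, hone]

include hab hodd in
theorem gow_odd (ih : Gow (H ⧸ A)) : rcount H = rcount (Subgroup.normalizer ((P : Subgroup H) : Set H)) ∧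
    (AllReal H ↔ Cond (P : Subgroup H) ∧
      Subgroup.normalizer ((P : Subgroup H) : Set H) = (P : Subgroup H)) := by
  classical
  haveI := Fact.mk Nat.prime_two
  set N := Subgroup.normalizer ((P : Subgroup H) : Set H) with hN
  obtain ⟨h1, h2⟩ := ih (P.mapSurjective (QuotientGroup.mk'_surjective A))
  refine ⟨?_, ?_, ?_⟩
  · rw [← rcount_quotient A (odd_kills A hab hodd), h1]
    refine rcount_normalizer_quotient P A fun χ hr ho n hn => ?_
    haveI := Fintype.ofFinite N
    haveI := Fintype.ofFinite (A.subgroupOf N)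
    refine trivial_on_odd (A.subgroupOf N) (fun a b => ?_) ?_ hr ho n hn
    · exact Subtype.ext (Subtype.ext (congrArg (fun t : A => (t : H))
        (hab ⟨((a : N) : H), a.2⟩ ⟨((b : N) : H), b.2⟩)))
    · rw [Nat.card_congr (swapEquiv A N).toEquiv]
      exact hodd.of_dvd_nat (Subgroup.card_subgroup_dvd_card _)
  · intro hall
    obtain ⟨hC, hNP⟩ := h2.1 (allReal_quotient A hall)
    have hdec : ∀ n ∈ N, ∃ a ∈ A, ∃ x ∈ (P : Subgroup H), a * x = n := by
      intro n hn
      have h3 : (QuotientGroup.mk' A) n ∈ ((P.mapSurjective (QuotientGroup.mk'_surjective A) :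
          Sylow 2 (H ⧸ A)) : Subgroup (H ⧸ A)) := by
        rw [← hNP, normalizer_mapSurjective]
        exact ⟨n, hn, rfl⟩
      rw [Sylow.coe_mapSurjective] at h3
      obtain ⟨x, hx, e⟩ := h3
      refine ⟨n * x⁻¹, ?_, x, hx, by simp⟩
      rw [← QuotientGroup.eq_one_iff, QuotientGroup.mk_mul, QuotientGroup.mk_inv]
      rw [QuotientGroup.mk'_apply, QuotientGroup.mk'_apply] at e
      rw [e, mul_inv_cancel]
    refine ⟨fun x hx => ?_, le_antisymm (fun n hn => ?_) Subgroup.le_normalizer⟩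
    · have h3 := hC (QuotientGroup.mk' A x) (by rw [Sylow.coe_mapSurjective]; exact ⟨x, hx, rfl⟩)
      rw [Sylow.coe_mapSurjective, ← Subgroup.map_commutator] at h3
      obtain ⟨c, hc, e⟩ := h3
      have hcP : c ∈ (P : Subgroup H) := Subgroup.commutator_le_self _ hc
      rw [← map_mul, QuotientGroup.mk'_apply, QuotientGroup.mk'_apply, QuotientGroup.eq] at e
      have := inf_sylow_eq_bot A hodd P e
        ((P : Subgroup H).mul_mem ((P : Subgroup H).inv_mem hcP) ((P : Subgroup H).mul_mem hx hx))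
      rwa [← inv_mul_eq_one.1 this]
    · obtain ⟨a, ha, x, hx, rfl⟩ := hdec n hn
      by_contra hnP
      have haN : a ∈ N := by
        have := N.mul_mem hn (N.inv_mem (Subgroup.le_normalizer hx))
        simpa [hN] using this
      haveI : ((P : Subgroup H).subgroupOf N).Normal := Subgroup.normal_in_normalizer
      have hab' : ∀ u v : N, u * v * u⁻¹ * v⁻¹ ∈ (P : Subgroup H).subgroupOf N := by
        intro u v
        obtain ⟨a1, ha1, x1, hx1, e1⟩ := hdec (u : H) u.2
        obtain ⟨a2, ha2, x2, hx2, e2⟩ := hdec (v : H) v.2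
        have ha1N : a1 ∈ N := by
          rw [show a1 = (u : H) * x1⁻¹ by rw [← e1]; group]
          exact N.mul_mem u.2 (N.inv_mem (Subgroup.le_normalizer hx1))
        have ha2N : a2 ∈ N := by
          rw [show a2 = (v : H) * x2⁻¹ by rw [← e2]; group]
          exact N.mul_mem v.2 (N.inv_mem (Subgroup.le_normalizer hx2))
        rw [← QuotientGroup.eq_one_iff]
        have q1 : ∀ y (hy : y ∈ N), y ∈ (P : Subgroup H) →
            ((⟨y, hy⟩ : N) : N ⧸ (P : Subgroup H).subgroupOf N) = 1 :=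
          fun y hy h => (QuotientGroup.eq_one_iff _).2 h
        have eu : u = ⟨a1, ha1N⟩ * ⟨x1, Subgroup.le_normalizer hx1⟩ := Subtype.ext e1.symm
        have ev : v = ⟨a2, ha2N⟩ * ⟨x2, Subgroup.le_normalizer hx2⟩ := Subtype.ext e2.symm
        have hcomm : (⟨a1, ha1N⟩ : N) * ⟨a2, ha2N⟩ = ⟨a2, ha2N⟩ * ⟨a1, ha1N⟩ :=
          Subtype.ext (congrArg (fun t : A => (t : H)) (hab ⟨a1, ha1⟩ ⟨a2, ha2⟩))
        rw [eu, ev]
        simp only [QuotientGroup.mk_mul, QuotientGroup.mk_inv, q1 x1 _ hx1, q1 x2 _ hx2, mul_one]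
        have hq := congrArg (fun z : N => (z : N ⧸ (P : Subgroup H).subgroupOf N)) hcomm
        simp only [QuotientGroup.mk_mul] at hq
        rw [hq]
        group
      obtain ⟨μ, hμ⟩ := separation ((P : Subgroup H).subgroupOf N) hab' (g := ⟨a, haN⟩)
        (fun h => hnP ((P : Subgroup H).mul_mem h hx))
      haveI := Fintype.ofFinite N
      obtain ⟨χ, hχ, hc⟩ := exists_odd_over N (index_normalizer_odd P) μ
      exact hμ (linear_constituent_eq_one (isCharacter_of_irr χ.2) hc
        (odd_kills A hab hodd χ (hall χ hχ) hχ a ha))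
  · rintro ⟨hC, hNP⟩
    refine allReal_lift A (odd_kills_all A hab hodd P hNP) (h2.2 ⟨?_, ?_⟩)
    · rw [Sylow.coe_mapSurjective]; exact cond_map _ hC
    · rw [normalizer_mapSurjective, Sylow.coe_mapSurjective]
      exact congrArg _ hNP

end OddStep

section TwoStep

variable (V : Subgroup H) [hVn : V.Normal] (hV : IsPGroup 2 V) (P : Sylow 2 H)

/-- The subgroup generated by the squares of `V`. -/
def sqSub : Subgroup H := Subgroup.closure {x : H | ∃ v ∈ V, v * v = x}

instance sqSub_normal : (sqSub V).Normal := by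
  refine ⟨fun x hx g => ?_⟩
  have hmap : (sqSub V).map (MulAut.conj g).toMonoidHom ≤ sqSub V := by
    rw [sqSub, MonoidHom.map_closure]
    refine Subgroup.closure_mono ?_
    rintro _ ⟨_, ⟨v, hv, rfl⟩, rfl⟩
    exact ⟨g * v * g⁻¹, hVn.conj_mem v hv g, (map_mul (MulAut.conj g).toMonoidHom v v).symm⟩
  exact hmap ⟨x, hx, rfl⟩

omit [V.Normal] [Fintype H] in
theorem sqSub_le : sqSub V ≤ V := by
  rw [sqSub, Subgroup.closure_le]
  rintro _ ⟨v, hv, rfl⟩
  exact V.mul_mem hv hv

omit [V.Normal] in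
theorem kills_sqSub {χ : IrrCharacter H}
    (h : ∀ v ∈ V, (χ : H → ℂ) (v * v) = (χ : H → ℂ) 1) :
    ∀ n ∈ sqSub V, (χ : H → ℂ) n = (χ : H → ℂ) 1 := by
  intro n hn
  have hle : sqSub V ≤ charKernel (χ : H → ℂ) (isCharacter_of_irr χ.2) := by
    rw [sqSub, Subgroup.closure_le]
    rintro _ ⟨v, hv, rfl⟩
    exact (mem_charKernel _ _).2 (h v hv)
  exact (mem_charKernel _ _).1 (hle hn)

include hV in
theorem two_kills (χ : IrrCharacter H) (hr : Re0 (χ : H → ℂ)) (ho : OddDeg (χ : H → ℂ)) :
    ∀ n ∈ sqSub V, (χ : H → ℂ) n = (χ : H → ℂ) 1 := by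
  haveI := Fintype.ofFinite V
  refine kills_sqSub V fun v hv => ?_
  obtain ⟨μ, hμ⟩ := exists_linear_constituent V hV ho
  obtain ⟨g, hg⟩ := exists_real_constituent V hr ho (isIrrCharacter_linear μ) hμ
  have hc : classInner (fun n : V => (χ : H → ℂ) n) (conjNormFun V g fun v => (μ v : ℂ)) ≠ 0 := by
    rwa [classInner_res_conjNormFun V g (isClassFunction_irr χ.2)]
  refine trivial_of_constituent V χ.2 (isIrr_conjNormFun V g (isIrrCharacter_linear μ)) hc
    (x := ⟨v, hv⟩ * ⟨v, hv⟩) fun k => ?_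
  rw [← conjNormFun_mul, conjNormFun_apply_one, map_one, Units.val_one, conjNormFun_eq]
  have hk : Re0 (fun n : V => ((μ.comp (MulAut.conjNormal (g * k)).toMonoidHom n : ℂˣ) : ℂ)) := by
    intro n
    have := hg ((MulAut.conjNormal k : V ≃* V) n)
    rw [conjNormFun_eq] at this
    simpa [map_mul] using this
  have := congrArg Units.val (sq_eq_one_of_re0 hk ⟨v, hv⟩)
  rw [← map_mul, Units.val_one] at this
  exact this

include hV in
theorem two_kills_all (hC : Cond (P : Subgroup H)) (χ : IrrCharacter H) (ho : OddDeg (χ : H → ℂ)) :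
    ∀ n ∈ sqSub V, (χ : H → ℂ) n = (χ : H → ℂ) 1 := by
  haveI := Fact.mk Nat.prime_two
  haveI := Fintype.ofFinite V
  haveI := Fintype.ofFinite (P : Subgroup H)
  have hVP : V ≤ (P : Subgroup H) :=
    le_sup_right.trans (P.is_maximal' (P.isPGroup'.to_sup_of_normal_right hV) le_sup_left).le
  refine kills_sqSub V fun v hv => ?_
  obtain ⟨μ, hμ⟩ := exists_linear_constituent (P : Subgroup H) P.isPGroup' ho
  let μV : V →* ℂˣ := μ.comp (Subgroup.inclusion hVP)
  have hc : classInner (fun n : V => (χ : H → ℂ) n) (fun n => (μV n : ℂ)) ≠ 0 := by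
    have hsub := isCharacter_sub_irr (isCharacter_restrict (isCharacter_of_irr χ.2) _)
      (isIrrCharacter_linear μ) hμ
    obtain ⟨r, hr⟩ := classInner_char_nat (isCharacter_comp hsub (Subgroup.inclusion hVP))
      (isCharacter_of_irr (isIrrCharacter_linear μV))
    have e : (fun n : V => (χ : H → ℂ) n)
        = (fun x => ((fun k : (P : Subgroup H) => (χ : H → ℂ) k) - fun k => (μ k : ℂ))
            (Subgroup.inclusion hVP x)) + fun n => (μV n : ℂ) := by
      funext n
      simp [μV, Subgroup.inclusion]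
    rw [e, classInner_add_left, hr, classInner_irr_self (isIrrCharacter_linear μV)]
    exact_mod_cast Nat.succ_ne_zero r
  refine trivial_of_constituent V χ.2 (isIrrCharacter_linear μV) hc (x := ⟨v, hv⟩ * ⟨v, hv⟩) fun k => ?_
  rw [conjNormFun_eq, map_one, Units.val_one]
  show ((μV ((MulAut.conjNormal k : V ≃* V) (⟨v, hv⟩ * ⟨v, hv⟩)) : ℂˣ) : ℂ) = 1
  refine congrArg Units.val (commutator_hom_eq_one μ ?_)
  rw [map_mul]
  exact hC _ (hVP ((MulAut.conjNormal k : V ≃* V) ⟨v, hv⟩).2)

include hV in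
theorem gow_two (ih : Gow (H ⧸ sqSub V)) :
    rcount H = rcount (Subgroup.normalizer ((P : Subgroup H) : Set H)) ∧
    (AllReal H ↔ Cond (P : Subgroup H) ∧
      Subgroup.normalizer ((P : Subgroup H) : Set H) = (P : Subgroup H)) := by
  classical
  haveI := Fact.mk Nat.prime_two
  set N := Subgroup.normalizer ((P : Subgroup H) : Set H) with hN
  have hVP : V ≤ (P : Subgroup H) :=
    le_sup_right.trans (P.is_maximal' (P.isPGroup'.to_sup_of_normal_right hV) le_sup_left).le
  have hKP : sqSub V ≤ (P : Subgroup H) := (sqSub_le V).trans hVP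
  obtain ⟨h1, h2⟩ := ih (P.mapSurjective (QuotientGroup.mk'_surjective (sqSub V)))
  refine ⟨?_, ?_, ?_⟩
  · rw [← rcount_quotient (sqSub V) (two_kills V hV), h1]
    refine rcount_normalizer_quotient P _ fun χ hr ho n hn => ?_
    haveI := Fintype.ofFinite N
    have hVN : IsPGroup 2 (V.subgroupOf N) :=
      hV.of_equiv (Subgroup.subgroupOfEquivOfLe (hVP.trans Subgroup.le_normalizer)).symm
    refine two_kills (V.subgroupOf N) hVN χ hr ho n ?_
    have hle : sqSub V ≤ (sqSub (V.subgroupOf N)).map N.subtype := by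
      rw [sqSub, Subgroup.closure_le]
      rintro _ ⟨v, hv, rfl⟩
      exact ⟨⟨v, Subgroup.le_normalizer (hVP hv)⟩ * ⟨v, Subgroup.le_normalizer (hVP hv)⟩,
        Subgroup.subset_closure ⟨_, hv, rfl⟩, rfl⟩
    obtain ⟨m, hm, e⟩ := hle hn
    rwa [show n = m from Subtype.ext e.symm]
  · intro hall
    obtain ⟨hC, hNP⟩ := h2.1 (allReal_quotient _ hall)
    have hKc : sqSub V ≤ ⁅(P : Subgroup H), (P : Subgroup H)⁆ := by
      intro k hk
      by_contra hne
      haveI := Fintype.ofFinite (P : Subgroup H)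
      obtain ⟨μ, hμ⟩ := separation (commutator (P : Subgroup H)) (fun x y =>
        Subgroup.commutator_mem_commutator (Subgroup.mem_top x) (Subgroup.mem_top y))
        (g := ⟨k, hKP hk⟩) (fun h => hne (by
          rw [← Subgroup.map_subtype_commutator]
          exact ⟨_, h, rfl⟩))
      obtain ⟨χ, hχ, hc⟩ := exists_odd_over (P : Subgroup H)
        (Nat.not_even_iff_odd.1 fun e => P.not_dvd_index e.two_dvd) μ
      exact hμ (linear_constituent_eq_one (isCharacter_of_irr χ.2) hc
        (two_kills V hV χ (hall χ hχ) hχ k hk))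
    refine ⟨fun x hx => ?_, le_antisymm (fun n hn => ?_) Subgroup.le_normalizer⟩
    · have h3 := hC (QuotientGroup.mk' _ x) (by rw [Sylow.coe_mapSurjective]; exact ⟨x, hx, rfl⟩)
      rw [Sylow.coe_mapSurjective, ← Subgroup.map_commutator] at h3
      obtain ⟨c, hc, e⟩ := h3
      rw [← map_mul, QuotientGroup.mk'_apply, QuotientGroup.mk'_apply, QuotientGroup.eq] at e
      have := Subgroup.mul_mem _ hc (hKc e)
      rwa [mul_inv_cancel_left] at this
    · have h3 : (QuotientGroup.mk' (sqSub V)) n ∈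
          ((P.mapSurjective (QuotientGroup.mk'_surjective (sqSub V)) :
            Sylow 2 (H ⧸ sqSub V)) : Subgroup (H ⧸ sqSub V)) := by
        rw [← hNP, normalizer_mapSurjective]
        exact ⟨n, hn, rfl⟩
      rw [Sylow.coe_mapSurjective] at h3
      obtain ⟨x, hx, e⟩ := h3
      rw [QuotientGroup.mk'_apply, QuotientGroup.mk'_apply, QuotientGroup.eq] at e
      have := (P : Subgroup H).mul_mem hx (hKP e)
      rwa [mul_inv_cancel_left] at this
  · rintro ⟨hC, hNP⟩
    refine allReal_lift _ (two_kills_all V hV P hC) (h2.2 ⟨?_, ?_⟩)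
    · rw [Sylow.coe_mapSurjective]; exact cond_map _ hC
    · rw [normalizer_mapSurjective, Sylow.coe_mapSurjective]
      exact congrArg _ hNP

end TwoStep

theorem gow_elementary (h2 : ∀ h : H, h * h = 1) : Gow H := by
  intro P
  haveI := Fact.mk Nat.prime_two
  have htop : (P : Subgroup H) = ⊤ :=
    (P.is_maximal' (Q := ⊤) (fun g => ⟨1, Subtype.ext (by simpa [pow_two] using h2 (g : H))⟩) le_top).symm
  have hN : Subgroup.normalizer ((P : Subgroup H) : Set H) = ⊤ :=
    top_le_iff.1 (htop ▸ Subgroup.le_normalizer)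
  refine ⟨?_, fun _ => ⟨fun x _ => by rw [h2]; exact one_mem _, hN.trans htop.symm⟩, fun _ χ _ g => ?_⟩
  · rw [hN]; exact rcount_congr Subgroup.topEquiv.symm
  · have hinv : ∀ a : H, a⁻¹ = a := fun a => inv_eq_of_mul_eq_one_right (h2 a)
    rw [← char_apply_inv (isCharacter_of_irr χ.2), hinv]

/-- **Gow.** -/
theorem gow : ∀ (n : ℕ) (G : Type u) [Group G] [Finite G] [Group.IsSolvable G],
    Nat.card G = n → Gow G := by
  intro n
  induction n using Nat.strong_induction_on with
  | _ n ih =>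
  intro G _ _ _ hn
  subst hn
  classical
  haveI := Fintype.ofFinite G
  haveI := Fact.mk Nat.prime_two
  have hquot : ∀ (K : Subgroup G) [K.Normal], K ≠ ⊥ → Gow (G ⧸ K) := by
    intro K _ hK
    haveI : Group.IsSolvable (G ⧸ K) :=
      solvable_of_surjective (f := QuotientGroup.mk' K) (QuotientGroup.mk'_surjective K)
    refine ih _ ?_ (G ⧸ K) rfl
    rw [Subgroup.card_eq_card_quotient_mul_card_subgroup K]
    exact lt_mul_of_one_lt_right Nat.card_pos (K.one_lt_card_iff_ne_bot.2 hK)
  by_cases hodd : ∃ A : Subgroup G, A.Normal ∧ A ≠ ⊥ ∧ (∀ a b : A, a * b = b * a) ∧ Odd (Nat.card A)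
  · obtain ⟨A, hAn, hA, hab, ho⟩ := hodd
    exact fun P => gow_odd A hab ho P (hquot A hA)
  set V := pCore 2 G with hVdef
  haveI hVn : V.Normal := by rw [hVdef]; infer_instance
  have hV : IsPGroup 2 V := CfsgLib.isPGroup_pCore 2
  by_cases hsq : sqSub V = ⊥
  swap
  · exact fun P => gow_two V hV P (hquot _ hsq)
  have hV2 : ∀ v : V, v * v = 1 := fun v => Subtype.ext (by
    have : ((v : G) * v) ∈ sqSub V := Subgroup.subset_closure ⟨v, v.2, rfl⟩
    rw [hsq, Subgroup.mem_bot] at this
    exact this)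
  by_cases hVtop : V = ⊤
  · exact gow_elementary fun g => congrArg (fun v : V => (v : G)) (hV2 ⟨g, hVtop ▸ Subgroup.mem_top g⟩)
  haveI : Group.IsSolvable (G ⧸ V) :=
    solvable_of_surjective (f := QuotientGroup.mk' V) (QuotientGroup.mk'_surjective V)
  haveI : Nontrivial (G ⧸ V) := (QuotientGroup.nontrivial_iff).2 hVtop
  obtain ⟨q, Qb, hq, hQbn, hQb, hQbq⟩ := CfsgLib.Glauberman.exists_normal_pgroup (G ⧸ V)
  haveI := Fact.mk hq
  have hq2 : q ≠ 2 := by
    rintro rfl
    have h : Qb.comap (QuotientGroup.mk' V) ≤ V :=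
      CfsgLib.le_pCore (hQbq.comap_of_ker_isPGroup _ (by rw [QuotientGroup.ker_mk']; exact hV))
    refine hQb (eq_bot_iff.2 fun x hx => ?_)
    obtain ⟨g, rfl⟩ := QuotientGroup.mk'_surjective V x
    exact (QuotientGroup.eq_one_iff g).mpr (h hx)
  let K := Qb.comap (QuotientGroup.mk' V)
  haveI : K.Normal := hQbn.comap _
  have hVK : V ≤ K := fun v hv => by
    show QuotientGroup.mk' V v ∈ Qb
    rw [show QuotientGroup.mk' V v = 1 from (QuotientGroup.eq_one_iff v).2 hv]
    exact one_mem _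
  let Q : Sylow q K := default
  let Q0 : Subgroup G := (Q : Subgroup K).map K.subtype
  let X := Subgroup.normalizer (Q0 : Set G)
  have hfr : X ⊔ K = ⊤ := Sylow.normalizer_sup_eq_top Q
  have hQX : Q0 ≤ X := Subgroup.le_normalizer
  have hQodd : Odd (Nat.card Q0) := by
    rw [Subgroup.card_map_of_injective K.subtype_injective]
    obtain ⟨j, hj⟩ := IsPGroup.iff_card.1 Q.isPGroup'
    rw [hj]
    exact (hq.odd_of_ne_two hq2).pow
  have hKQ : K ≤ V ⊔ Q0 := by
    let f : K →* Qb := (QuotientGroup.mk' V).subgroupComap Qb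
    have hf : Function.Surjective f := fun y => by
      obtain ⟨g, hg⟩ := QuotientGroup.mk'_surjective V (y : G ⧸ V)
      exact ⟨⟨g, show QuotientGroup.mk' V g ∈ Qb by rw [hg]; exact y.2⟩, Subtype.ext hg⟩
    have htop : ((Q.mapSurjective hf : Sylow q Qb) : Subgroup Qb) = ⊤ :=
      ((Q.mapSurjective hf).is_maximal' (Q := ⊤) (hQbq.to_subgroup _) le_top).symm
    rw [Sylow.coe_mapSurjective] at htop
    intro k hk
    obtain ⟨y, hy, hye⟩ : f ⟨k, hk⟩ ∈ (Q : Subgroup K).map f := htop ▸ Subgroup.mem_top _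
    have e : QuotientGroup.mk' V (y : G) = QuotientGroup.mk' V k := congrArg Subtype.val hye
    rw [QuotientGroup.mk'_apply, QuotientGroup.mk'_apply, QuotientGroup.eq] at e
    have h3 : k * (y : G)⁻¹ ∈ V := by
      have := hVn.conj_mem _ e (y : G)
      simpa [mul_assoc] using this
    have := Subgroup.mul_mem_sup h3 (Subgroup.mem_map_of_mem K.subtype hy : (y : G) ∈ Q0)
    simpa using this
  have hXV : ∀ g : G, ∃ v ∈ V, ∃ x ∈ X, v * x = g := by
    intro g
    have h1 : V ⊔ X = ⊤ := by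
      rw [eq_top_iff, ← hfr]
      exact sup_le le_sup_right (hKQ.trans (sup_le_sup_left hQX _))
    exact Subgroup.mem_sup_of_normal_left.1 (h1 ▸ Subgroup.mem_top g)
  have hVc : ∀ a b : V, a * b = b * a := fun a b => by
    have hinv : ∀ a : V, a⁻¹ = a := fun a => inv_eq_of_mul_eq_one_right (hV2 a)
    calc a * b = (a * b)⁻¹ := (hinv _).symm
      _ = b * a := by rw [_root_.mul_inv_rev, hinv, hinv]
  letI : CommGroup V := { (inferInstance : Group V) with mul_comm := hVc }
  haveI := Fintype.ofFinite Q0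
  let Nm : V →* V :=
    { toFun := fun v => ∏ x : Q0, (MulAut.conjNormal (x : G) : V ≃* V) v
      map_one' := by simp
      map_mul' := fun a b => by simp only [map_mul, Finset.prod_mul_distrib] }
  have hNmfix : ∀ (v : V), ∀ y ∈ Q0, (y : G) * (Nm v : V) = (Nm v : V) * y := by
    intro v y hy
    have h : (MulAut.conjNormal y : V ≃* V) (Nm v) = Nm v := by
      simp only [Nm, MonoidHom.coe_mk, OneHom.coe_mk, map_prod]
      refine Fintype.prod_equiv (Equiv.mulLeft (⟨y, hy⟩ : Q0)) _ _ fun x => ?_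
      simp
    have h' := congrArg Subtype.val h
    rw [MulAut.conjNormal_apply] at h'
    exact mul_inv_eq_iff_eq_mul.1 h'
  have hNmfix' : ∀ v : V, (∀ y ∈ Q0, (y : G) * v = v * y) → Nm v = v := by
    intro v hv
    have h : ∀ x : Q0, (MulAut.conjNormal (x : G) : V ≃* V) v = v := fun x => Subtype.ext (by
      rw [MulAut.conjNormal_apply, hv x x.2, mul_inv_cancel_right])
    show ∏ x : Q0, (MulAut.conjNormal (x : G) : V ≃* V) v = v
    rw [Finset.prod_congr rfl fun x _ => h x, Finset.prod_const, Finset.card_univ,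
      ← Nat.card_eq_fintype_card]
    obtain ⟨t, ht⟩ := hQodd
    rw [ht, pow_succ, pow_mul, pow_two, hV2, one_pow, one_mul]
  let U : Subgroup G := Nm.ker.map V.subtype
  have hUV : U ≤ V := Subgroup.map_subtype_le _
  have hNmX : ∀ x ∈ X, ∀ v : V,
      Nm ((MulAut.conjNormal x : V ≃* V) v) = (MulAut.conjNormal x : V ≃* V) (Nm v) := by
    intro x hx v
    simp only [Nm, MonoidHom.coe_mk, OneHom.coe_mk, map_prod]
    let σ : Q0 → Q0 := fun y => ⟨x⁻¹ * (y : G) * x, by
      simpa using (Subgroup.mem_normalizer_iff.1 (X.inv_mem hx) (y : G)).1 y.2⟩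
    refine Fintype.prod_bijective σ ((Finite.injective_iff_bijective).1 ?_) _ _ fun y => ?_
    · intro a b h
      simpa [σ] using h
    · apply Subtype.ext
      simp [σ, mul_assoc]
  haveI hUn : U.Normal := by
    refine ⟨?_⟩
    rintro _ ⟨u, hu, rfl⟩ g
    obtain ⟨w, hw, x, hx, rfl⟩ := hXV g
    refine ⟨(MulAut.conjNormal x : V ≃* V) u, ?_, ?_⟩
    · show Nm _ = 1
      rw [hNmX x hx, MonoidHom.mem_ker.1 hu, map_one]
    · have hc : (⟨w, hw⟩ : V) * (MulAut.conjNormal x : V ≃* V) u
          = (MulAut.conjNormal x : V ≃* V) u * ⟨w, hw⟩ := hVc _ _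
      have hc' := congrArg (fun t : V => (t : G)) hc
      simp only [Subgroup.coe_mul, MulAut.conjNormal_apply] at hc'
      simp only [Subgroup.subtype_apply, MulAut.conjNormal_apply]
      calc x * (u : G) * x⁻¹ = (x * u * x⁻¹ * w) * w⁻¹ := by group
        _ = (w * (x * u * x⁻¹)) * w⁻¹ := by rw [hc']
        _ = w * x * (u : G) * (w * x)⁻¹ := by group
  have hUX : ∀ u ∈ U, u ∈ X → u = 1 := by
    rintro _ ⟨v, hv, rfl⟩ hvX
    have hcomm : ∀ y ∈ Q0, (y : G) * v = v * y := by
      intro y hy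
      have h1 : (v : G) * y * (v : G)⁻¹ * y⁻¹ ∈ Q0 :=
        Q0.mul_mem ((Subgroup.mem_normalizer_iff.1 hvX y).1 hy) (Q0.inv_mem hy)
      have h2 : (v : G) * y * (v : G)⁻¹ * y⁻¹ ∈ V := by
        rw [mul_assoc, mul_assoc, ← mul_assoc y]
        exact V.mul_mem v.2 (hVn.conj_mem _ (V.inv_mem v.2) y)
      have h3 : (v : G) * y * (v : G)⁻¹ * y⁻¹ = 1 := by
        obtain ⟨k, hk⟩ := hV ⟨_, h2⟩
        have h4 : orderOf ((v : G) * y * (v : G)⁻¹ * y⁻¹) ∣ 2 ^ k :=
          orderOf_dvd_of_pow_eq_one (congrArg Subtype.val hk)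
        have h5 := Subgroup.orderOf_dvd_natCard _ h1
        rw [← orderOf_eq_one_iff]
        exact Nat.dvd_one.1 (((Nat.coprime_two_left.2 hQodd).pow_left k).gcd_eq_one ▸ Nat.dvd_gcd h4 h5)
      rw [mul_inv_eq_one, mul_inv_eq_iff_eq_mul] at h3
      exact h3.symm
    have := hNmfix' v hcomm
    rw [MonoidHom.mem_ker.1 hv] at this
    rw [← this]; rfl
  have hsup : ∀ g : G, ∃ u ∈ U, ∃ x ∈ X, u * x = g := by
    intro g
    obtain ⟨v, hv, x, hx, rfl⟩ := hXV g
    set v' : V := ⟨v, hv⟩
    have hmemX : ((Nm v' : V) : G) ∈ X := by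
      rw [Subgroup.mem_normalizer_iff]
      intro y
      constructor
      · intro hy; rw [← hNmfix v' y hy, mul_inv_cancel_right]; exact hy
      · intro hy
        have h := hNmfix v' _ hy
        have e : ((Nm v' : V) : G) * y * ((Nm v' : V) : G)⁻¹ = y := by
          have h' : ((Nm v' : V) : G) * (((Nm v' : V) : G) * y * ((Nm v' : V) : G)⁻¹)
              = ((Nm v' : V) : G) * y := by rw [← h]; group
          exact mul_left_cancel h'
        rwa [e] at hy
    have hidem : Nm (Nm v') = Nm v' := hNmfix' _ (hNmfix v')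
    refine ⟨((v' * (Nm v')⁻¹ : V) : G), ⟨v' * (Nm v')⁻¹, ?_, rfl⟩, ((Nm v' : V) : G) * x, X.mul_mem hmemX hx, ?_⟩
    · show Nm (v' * (Nm v')⁻¹) = 1
      rw [map_mul, map_inv, hidem, mul_inv_cancel]
    · simp [v', mul_assoc]
  have hUne : U ≠ ⊥ := by
    intro hU
    refine hodd ⟨(Subgroup.center Q0).map Q0.subtype, ?_, ?_, ?_, ?_⟩
    · have hX : X = ⊤ := eq_top_iff.2 fun g _ => by
        obtain ⟨u, hu, x, hx, rfl⟩ := hsup g
        rw [hU, Subgroup.mem_bot] at hu
        rwa [hu, one_mul]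
      haveI : Q0.Normal := Subgroup.normalizer_eq_top_iff.1 hX
      infer_instance
    · intro h
      rw [Subgroup.map_eq_bot_iff_of_injective _ Q0.subtype_injective] at h
      have hQ0 : IsPGroup q Q0 := Q.isPGroup'.map _
      rcases subsingleton_or_nontrivial Q0 with hs | hs
      · apply hQb
        rw [eq_bot_iff]
        intro y hy
        obtain ⟨g, rfl⟩ := QuotientGroup.mk'_surjective V y
        have hb : Q0 = ⊥ := Subgroup.eq_bot_of_subsingleton _
        have hgV := hKQ (show g ∈ K from hy)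
        rw [hb, sup_bot_eq] at hgV
        exact (QuotientGroup.eq_one_iff g).2 hgV
      · haveI := hQ0.center_nontrivial
        exact (Subgroup.nontrivial_iff_ne_bot _).1 inferInstance h
    · rintro ⟨_, a, ha, rfl⟩ ⟨_, b, -, rfl⟩
      exact Subtype.ext (congrArg (fun t : Q0 => (t : G)) ((Subgroup.mem_center_iff.1 ha b).symm))
    · rw [Subgroup.card_map_of_injective Q0.subtype_injective]
      exact hQodd.of_dvd_nat (Subgroup.card_subgroup_dvd_card _)
  have hcompl : X.IsComplement' U := by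
    refine Subgroup.isComplement'_of_disjoint_and_mul_eq_univ ?_ (Set.eq_univ_of_forall fun g => ?_)
    · rw [Subgroup.disjoint_def]; exact fun {x} hx hu => hUX x hu hx
    · obtain ⟨u, hu, x, hx, rfl⟩ := hsup g
      exact ⟨x, hx, x⁻¹ * u * x, by simpa using hUn.conj_mem u hu x⁻¹, by group⟩
  let π : G →* X := (Subgroup.IsComplement'.QuotientMulEquiv hcompl).toMonoidHom.comp (QuotientGroup.mk' U)
  have hsymm : ∀ x : X, (Subgroup.IsComplement'.QuotientMulEquiv hcompl).symm x
      = ((x : G) : G ⧸ U) := fun x => rfl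
  have hπX : ∀ x : X, π x = x := fun x => by
    show (Subgroup.IsComplement'.QuotientMulEquiv hcompl) ((x : G) : G ⧸ U) = x
    rw [← hsymm, MulEquiv.apply_symm_apply]
  have hπU : ∀ h : G, π h = 1 ↔ h ∈ U := fun h => by
    show (Subgroup.IsComplement'.QuotientMulEquiv hcompl) (h : G ⧸ U) = 1 ↔ _
    rw [MulEquiv.map_eq_one_iff, QuotientGroup.eq_one_iff]
  haveI := Fintype.ofFinite U
  have h2 : ∀ u : U, u * u = 1 := fun u => Subtype.ext
    (congrArg (fun v : V => (v : G)) (hV2 ⟨u, hUV u.2⟩))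
  have IH : ∀ L : Subgroup G, Nat.card L < Nat.card G → Gow L := fun L hL => ih _ hL L rfl
  exact fun P => ⟨rcount_step U X π hπX hπU h2 P IH hUne, allReal_step U X π hπX hπU h2 P IH hUne⟩

end CfsgLib.RealOdd
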