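import Cfsg.Agent.Lib.RealOdd.Transfer

/-! # The step for a complemented normal subgroup of exponent two. -/

set_option autoImplicit false

namespace CfsgLib.RealOdd

open Cfsg CfsgLib.CharTheory
open scoped ComplexConjugate commutatorElement

universe u

variable {H : Type u} [Group H] [Fintype H] (U : Subgroup H) [hUn : U.Normal] [Fintype U]
  (X : Subgroup H) (π : H →* X) (hπX : ∀ x : X, π x = x) (hπU : ∀ h : H, π h = 1 ↔ h ∈ U)
  (h2 : ∀ u : U, u * u = 1) (P : Sylow 2 H)

include h2 in
omit [Fintype U] in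
theorem le_sylow : U ≤ (P : Subgroup H) := by
  haveI := Fact.mk Nat.prime_two
  have hU : IsPGroup 2 U := fun u => ⟨1, by rw [pow_one, pow_two]; exact h2 u⟩
  have h := P.isPGroup'.to_sup_of_normal_right hU
  exact le_sup_right.trans (P.is_maximal' h le_sup_left).le

include hπX hπU h2 in
theorem sylow_inter {T : Subgroup H} (hPT : (P : Subgroup H) ≤ T) :
    ∃ Q : Sylow 2 (X ⊓ T : Subgroup H),
      (∀ s : (X ⊓ T : Subgroup H), s ∈ (Q : Subgroup (X ⊓ T : Subgroup H)) ↔ (s : H) ∈ (P : Subgroup H)) ∧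
      Subgroup.normalizer ((Q : Subgroup (X ⊓ T : Subgroup H)) : Set (X ⊓ T : Subgroup H))
        = (Subgroup.normalizer ((P : Subgroup H) : Set H)).subgroupOf (X ⊓ T) ∧
      (Cond (P : Subgroup H) → Cond (Q : Subgroup (X ⊓ T : Subgroup H))) := by
  haveI := Fact.mk Nat.prime_two
  have hUP := le_sylow U h2 P
  let f := projT U X π hπX hπU (hUP.trans hPT)
  have hf := projT_surjective U X π hπX hπU (hUP.trans hPT)
  refine ⟨(P.subtype hPT).mapSurjective hf, ?_, ?_, fun hC => ?_⟩
  · intro s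
    rw [Sylow.coe_mapSurjective]
    constructor
    · rintro ⟨t, ht, rfl⟩
      exact proj_mem U X π hπX hπU hUP (h := (t : H)) ht
    · intro hs
      exact ⟨Subgroup.inclusion inf_le_right s, hs, projT_self U X π hπX hπU _ s⟩
  · have hQ : ∀ s : (X ⊓ T : Subgroup H), s ∈ (((P.subtype hPT).mapSurjective hf : Sylow 2 _) :
        Subgroup (X ⊓ T : Subgroup H)) ↔ (s : H) ∈ (P : Subgroup H) := by
      intro s
      rw [Sylow.coe_mapSurjective]
      constructor
      · rintro ⟨t, ht, rfl⟩
        exact proj_mem U X π hπX hπU hUP (h := (t : H)) ht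
      · intro hs
        exact ⟨Subgroup.inclusion inf_le_right s, hs, projT_self U X π hπX hπU _ s⟩
    have key : ∀ s : (X ⊓ T : Subgroup H),
        (∀ y : (X ⊓ T : Subgroup H), (y : H) ∈ (P : Subgroup H) →
          (s : H) * y * (s : H)⁻¹ ∈ (P : Subgroup H)) →
        ∀ x ∈ (P : Subgroup H), (s : H) * x * (s : H)⁻¹ ∈ (P : Subgroup H) := by
      intro s hs x hx
      have hu := div_mem U X π hπX hπU x
      have hy : ((π x : X) : H) ∈ (P : Subgroup H) := proj_mem U X π hπX hπU hUP hx
      have h1 := hs ⟨_, Subgroup.mem_inf.2 ⟨(π x).2, hPT hy⟩⟩ hy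
      have h3 := hUP (hUn.conj_mem _ hu (s : H))
      have := (P : Subgroup H).mul_mem h3 h1
      simpa [mul_assoc] using this
    ext s
    rw [Subgroup.mem_normalizer_iff, Subgroup.mem_subgroupOf, Subgroup.mem_normalizer_iff]
    constructor
    · intro h x
      refine ⟨key s (fun y hy => ?_) x, fun hx => ?_⟩
      · have := (hQ _).1 ((h y).1 ((hQ y).2 hy))
        simpa using this
      · have h' := key s⁻¹ (fun y hy => ?_) _ hx
        · simpa [mul_assoc] using h'
        · have := (h (s⁻¹ * y * s)).2 (by simpa [mul_assoc] using (hQ y).2 hy)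
          simpa using (hQ _).1 this
    · intro h y
      rw [hQ, hQ]
      simpa using h (y : H)
  · rw [Sylow.coe_mapSurjective]
    exact cond_map f (cond_subgroupOf hPT hC)

variable (IH : ∀ K : Subgroup H, Nat.card K < Nat.card H → Gow K)
  (hUne : U ≠ ⊥)

include hπX hπU hUne in
omit [Fintype U] in
theorem card_lt (T : Subgroup H) : Nat.card (X ⊓ T : Subgroup H) < Nat.card H := by
  refine lt_of_le_of_ne (Subgroup.card_le_card_group _) fun h => hUne ?_
  have htop := Subgroup.eq_top_of_card_eq _ h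
  rw [eq_bot_iff]
  intro u hu
  have h1 : (π u : X) = 1 := (hπU u).2 hu
  have h2 := hπX ⟨u, (Subgroup.mem_inf.1 (htop ▸ Subgroup.mem_top u : u ∈ X ⊓ T)).1⟩
  rw [Subgroup.mem_bot]
  simpa [h1] using (congrArg Subtype.val h2).symm

include hπX hπU h2 IH hUne in
theorem rcount_step : rcount H = rcount (Subgroup.normalizer ((P : Subgroup H) : Set H)) := by
  classical
  haveI := Fact.mk Nat.prime_two
  haveI : Finite (U →* ℂˣ) := Finite.of_equiv _ linearEquivHom
  haveI := Fintype.ofFinite (U →* ℂˣ)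
  set N := Subgroup.normalizer ((P : Subgroup H) : Set H) with hN
  haveI := Fintype.ofFinite N
  have hUP := le_sylow U h2 P
  have hUN : U ≤ N := hUP.trans Subgroup.le_normalizer
  haveI := Fintype.ofFinite (U.subgroupOf N)
  let e : U.subgroupOf N ≃* U := Subgroup.subgroupOfEquivOfLe hUN
  haveI : Finite ((U.subgroupOf N) →* ℂˣ) := Finite.of_equiv _ linearEquivHom
  haveI := Fintype.ofFinite ((U.subgroupOf N) →* ℂˣ)
  let π' : N →* X.subgroupOf N :=
    { toFun := fun n => ⟨⟨((π (n : H) : X) : H), proj_mem U X π hπX hπU hUN n.2⟩, (π (n : H)).2⟩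
      map_one' := Subtype.ext (Subtype.ext (by simp))
      map_mul' := fun a b => Subtype.ext (Subtype.ext (by simp)) }
  have hπX' : ∀ x : X.subgroupOf N, π' x = x := fun x => Subtype.ext (Subtype.ext
    (congrArg (fun y : X => (y : H)) (hπX ⟨((x : N) : H), x.2⟩) :
      ((π ((x : N) : H) : X) : H) = ((x : N) : H)))
  have hπU' : ∀ h : N, π' h = 1 ↔ h ∈ U.subgroupOf N := by
    intro h
    rw [Subgroup.mem_subgroupOf, ← hπU]
    constructor
    · exact fun h1 => Subtype.ext (congrArg (fun x : X.subgroupOf N => ((x : N) : H)) h1)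
    · exact fun h1 => Subtype.ext (Subtype.ext (congrArg (fun x : X => (x : H)) h1))
  have h2' : ∀ u : U.subgroupOf N, u * u = 1 := fun u => e.injective (by rw [map_mul, h2, map_one])
  let P' : Sylow 2 N := P.subtype Subgroup.le_normalizer
  have hN' : Subgroup.normalizer ((P' : Subgroup N) : Set N) = ⊤ := by
    rw [Sylow.coe_subtype]
    exact Subgroup.normalizer_eq_top_iff.2 Subgroup.normal_in_normalizer
  have hT : ∀ l : U →* ℂˣ,
      tI (U.subgroupOf N) (l.comp e.toMonoidHom) = (tI U l).subgroupOf N := by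
    intro l
    ext n
    rw [Subgroup.mem_subgroupOf, mem_inertia, mem_inertia]
    constructor
    · intro h
      funext u
      exact congrFun h ⟨⟨(u : H), hUN u.2⟩, u.2⟩
    · intro h
      funext u
      exact congrFun h ⟨((u : N) : H), u.2⟩
  have hbig := card_mul_rcount U X π hπX hπU h2 P
  have hsmall := card_mul_rcount (U.subgroupOf N) (X.subgroupOf N) π' hπX' hπU' h2' P'
  rw [hN', Subgroup.card_top] at hsmall
  apply Nat.eq_of_mul_eq_mul_left (Nat.card_pos (α := N))
  rw [hbig, hsmall]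
  have hP' : ∀ l : U →* ℂˣ, (P : Subgroup H) ≤ tI U l ↔
      (P' : Subgroup N) ≤ tI (U.subgroupOf N) (l.comp e.toMonoidHom) := by
    intro l
    rw [hT, Sylow.coe_subtype]
    exact ⟨fun h x hx => h hx, fun h x hx => h (x := ⟨x, Subgroup.le_normalizer hx⟩) hx⟩
  refine Finset.sum_bij' (fun l _ => l.comp e.toMonoidHom) (fun l _ => l.comp e.symm.toMonoidHom)
    (fun l hl => Finset.mem_filter.2 ⟨Finset.mem_univ _, (hP' l).1 (Finset.mem_filter.1 hl).2⟩)
    (fun l hl => Finset.mem_filter.2 ⟨Finset.mem_univ _, (hP' _).2 ?_⟩)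
    (fun l _ => by ext; simp) (fun l _ => by ext; simp) fun l hl => ?_
  · have : ((l.comp e.symm.toMonoidHom).comp e.toMonoidHom) = l := by ext; simp
    rw [this]
    exact (Finset.mem_filter.1 hl).2
  have hPT := (Finset.mem_filter.1 hl).2
  rw [hT, top_inf_eq]
  congr 1
  · rw [← Subgroup.inf_subgroupOf_left]
    exact (Nat.card_congr (Subgroup.subgroupOfEquivOfLe inf_le_left).toEquiv).symm
  · obtain ⟨Q, -, hQN, -⟩ := sylow_inter U X π hπX hπU h2 P hPT
    rw [(IH _ (card_lt U X π hπX hπU hUne _) Q).1, hQN]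
    refine rcount_congr ((swapEquiv N (X ⊓ tI U l)).trans (MulEquiv.subgroupCongr ?_))
    ext x
    simp [Subgroup.mem_subgroupOf]

include hπX hπU h2 IH hUne in
theorem allReal_step : AllReal H ↔ Cond (P : Subgroup H) ∧
    Subgroup.normalizer ((P : Subgroup H) : Set H) = (P : Subgroup H) := by
  classical
  haveI := Fact.mk Nat.prime_two
  have hUP := le_sylow U h2 P
  have hinv : ∀ a : U, a⁻¹ = a := fun a => inv_eq_of_mul_eq_one_right (h2 a)
  have hUc : ∀ a b : U, a * b = b * a := fun a b => by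
    calc a * b = (a * b)⁻¹ := (hinv _).symm
      _ = b * a := by rw [_root_.mul_inv_rev, hinv, hinv]
  constructor
  · intro hall
    have hπs : Function.Surjective π := fun x => ⟨x, hπX x⟩
    let R : Sylow 2 X := P.mapSurjective hπs
    have hXlt : Nat.card X < Nat.card H := by
      simpa using card_lt U X π hπX hπU hUne ⊤
    obtain ⟨-, hiff⟩ := IH X hXlt R
    obtain ⟨hC, hNR⟩ := hiff.1 (allReal_of_surjective π hπs hall)
    have hRP : (R : Subgroup X).map X.subtype ≤ (P : Subgroup H) := by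
      rw [Sylow.coe_mapSurjective]
      rintro _ ⟨_, ⟨x, hx, rfl⟩, rfl⟩
      exact proj_mem U X π hπX hπU hUP hx
    refine ⟨fun x hx => ?_, le_antisymm (fun n hn => ?_) Subgroup.le_normalizer⟩
    · let u : H := x * ((π x : X) : H)⁻¹
      have hu : u ∈ U := div_mem U X π hπX hπU x
      have hy : ((π x : X) : H) ∈ (P : Subgroup H) := proj_mem U X π hπX hπU hUP hx
      have hyR : π x ∈ (R : Subgroup X) := by
        rw [Sylow.coe_mapSurjective]; exact ⟨x, hx, rfl⟩
      have h1 : ((π x : X) : H) * ((π x : X) : H) ∈ ⁅(P : Subgroup H), (P : Subgroup H)⁆ := by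
        have h3 : ((π x * π x : X) : H) ∈ ⁅(R : Subgroup X), (R : Subgroup X)⁆.map X.subtype :=
          ⟨_, hC _ hyR, rfl⟩
        rw [Subgroup.map_commutator] at h3
        exact Subgroup.commutator_mono hRP hRP h3
      have h3 : ⁅u⁻¹, ((π x : X) : H)⁆ ∈ ⁅(P : Subgroup H), (P : Subgroup H)⁆ :=
        Subgroup.commutator_mem_commutator ((P : Subgroup H).inv_mem (hUP hu)) hy
      have hui : u⁻¹ = u := congrArg Subtype.val (hinv ⟨u, hu⟩)
      have e : x * x = ⁅u⁻¹, ((π x : X) : H)⁆ * (((π x : X) : H) * ((π x : X) : H)) := by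
        rw [commutatorElement_def, inv_inv]
        nth_rewrite 1 [hui]
        rw [show x = u * ((π x : X) : H) by simp [u]]
        simp only [u, mul_assoc]
        group
      rw [e]
      exact Subgroup.mul_mem _ h3 h1
    · have h1 : π n ∈ (R : Subgroup X) := by
        rw [← hNR, normalizer_mapSurjective π hπs P]
        exact ⟨n, hn, rfl⟩
      have := (P : Subgroup H).mul_mem (hUP (div_mem U X π hπX hπU n)) (hRP ⟨_, h1, rfl⟩)
      simpa [mul_assoc] using this
  · rintro ⟨hC, hNP⟩ χ hχ g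
    obtain ⟨l, hl, hPT⟩ := exists_fixed_over U hUc P χ hχ
    haveI := Fintype.ofFinite (tI U l)
    obtain ⟨ψ, hψ, hc, e⟩ := exists_clifford_pre U (lf_irr l) (le_tI U l) rfl χ.2 hl
    obtain ⟨β, hβ, rfl⟩ := attach_surjective U X π hπX hπU l hψ hc
    obtain ⟨Q, hQ, hQN, hQC⟩ := sylow_inter U X π hπX hπU h2 P hPT
    have hall : AllReal (X ⊓ tI U l : Subgroup H) := by
      refine (IH _ (card_lt U X π hπX hπU hUne _) Q).2.2 ⟨hQC hC, ?_⟩
      rw [hQN, hNP]
      ext s
      rw [Subgroup.mem_subgroupOf]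
      exact (hQ s).symm
    have hβodd : OddDeg β := by
      rw [← attach_oddDeg U X π hπX hπU l β]
      obtain ⟨d, hd, h1⟩ := hχ
      obtain ⟨k, -, hk⟩ := irr_degree_pos hψ
      refine ⟨k, ?_, hk⟩
      rw [← e, indFun_apply_one, hk] at h1
      have : (tI U l).index * k = d := by exact_mod_cast h1
      rw [← this, Nat.odd_mul] at hd
      exact hd.2
    have hre := (attach_real U X π hπX hπU h2 l β).2 (hall ⟨β, hβ⟩ hβodd)
    rw [← e, conj_indFun]
    exact congrFun (congrArg (indFun (tI U l)) (funext hre)) g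

end CfsgLib.RealOdd
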