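import Cfsg.Agent.Lib.RealOdd.Count
import Cfsg.Agent.Lib.Basic

/-! # Transfers along homomorphisms and subgroups. -/

set_option autoImplicit false

namespace CfsgLib.RealOdd

open Cfsg CfsgLib.CharTheory
open scoped ComplexConjugate commutatorElement

universe u

variable {H : Type u} [Group H] [Finite H]

/-- Squares lie in the derived subgroup. -/
def Cond (A : Subgroup H) : Prop := ∀ x ∈ A, x * x ∈ ⁅A, A⁆

theorem cond_map {K : Type u} [Group K] (f : H →* K) {A : Subgroup H} (h : Cond A) :
    Cond (A.map f) := by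
  rintro _ ⟨x, hx, rfl⟩
  rw [← map_mul, ← Subgroup.map_commutator]
  exact ⟨_, h x hx, rfl⟩

theorem cond_subgroupOf {A T : Subgroup H} (hAT : A ≤ T) (h : Cond A) : Cond (A.subgroupOf T) := by
  intro x hx
  have h1 := h (x : H) hx
  rw [← Subgroup.map_subgroupOf_eq_of_le hAT, ← Subgroup.map_commutator] at h1
  obtain ⟨y, hy, e⟩ := h1
  rwa [show x * x = y from Subtype.ext e.symm]

/-- The statement proved by induction. -/
def Gow (G : Type u) [Group G] : Prop :=
  ∀ P : Sylow 2 G, rcount G = rcount (Subgroup.normalizer ((P : Subgroup G) : Set G)) ∧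
    (AllReal G ↔ Cond (P : Subgroup G) ∧
      Subgroup.normalizer ((P : Subgroup G) : Set G) = (P : Subgroup G))

theorem allReal_of_surjective {K : Type u} [Group K] [Finite K] (f : H →* K)
    (hf : Function.Surjective f) (h : AllReal H) : AllReal K := by
  intro ψ hψ k
  obtain ⟨x, rfl⟩ := hf k
  exact h ⟨fun a => (ψ : K → ℂ) (f a), isIrrCharacter_comp_surjective ψ.2 f hf⟩
    (by obtain ⟨d, hd, h1⟩ := hψ; exact ⟨d, hd, by simpa using h1⟩) x

theorem rcount_surjective {K : Type u} [Group K] [Finite K] (f : H →* K)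
    (hf : Function.Surjective f)
    (hker : ∀ χ : IrrCharacter H, Re0 (χ : H → ℂ) → OddDeg (χ : H → ℂ) →
      ∀ n ∈ f.ker, (χ : H → ℂ) n = (χ : H → ℂ) 1) : rcount K = rcount H := by
  rw [← rcount_quotient f.ker hker]
  exact (rcount_congr (QuotientGroup.quotientKerEquivOfSurjective f hf)).symm

theorem allReal_lift (K : Subgroup H) [K.Normal]
    (hker : ∀ χ : IrrCharacter H, OddDeg (χ : H → ℂ) →
      ∀ n ∈ K, (χ : H → ℂ) n = (χ : H → ℂ) 1) (h : AllReal (H ⧸ K)) : AllReal H := by
  intro χ hχ g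
  obtain ⟨ψ, hψ, e⟩ := exists_quotient_irr K χ.2 (hker χ hχ)
  rw [e]
  refine h ⟨ψ, hψ⟩ ?_ _
  obtain ⟨d, hd, h1⟩ := hχ
  exact ⟨d, hd, by rw [e] at h1; exact h1⟩

/-- The two ways of writing an intersection as a group. -/
def swapEquiv (A B : Subgroup H) : A.subgroupOf B ≃* B.subgroupOf A where
  toFun x := ⟨⟨((x : B) : H), x.2⟩, (x : B).2⟩
  invFun x := ⟨⟨((x : A) : H), x.2⟩, (x : A).2⟩
  left_inv _ := rfl
  right_inv _ := rfl
  map_mul' _ _ := rfl

theorem exists_mul_normalizer (P : Sylow 2 H) {K : Subgroup H} (hPK : (P : Subgroup H) ≤ K) (g : H)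
    (hg : ∀ x ∈ (P : Subgroup H), g * x * g⁻¹ ∈ K) :
    ∃ k ∈ K, k * g ∈ Subgroup.normalizer ((P : Subgroup H) : Set H) := by
  haveI := Fact.mk Nat.prime_two
  let P2 : Sylow 2 H := g • P
  have hP2 : (P2 : Subgroup H) ≤ K := by
    rintro y ⟨x, hx, rfl⟩
    exact hg x hx
  obtain ⟨s, hs⟩ := MulAction.exists_smul_eq K (P2.subtype hP2) (P.subtype hPK)
  have hs' : ((s : H) * g) • P = P := by
    have := congrArg (fun Q : Sylow 2 K => (Q : Subgroup K).map K.subtype) hs
    simp only [Sylow.smul_subtype, Sylow.coe_subtype, Subgroup.map_subgroupOf_eq_of_le hPK,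
      Subgroup.subgroupOf_map_subtype] at this
    have hle : ((s • P2 : Sylow 2 H) : Subgroup H) ≤ K := Sylow.smul_le hP2 s
    refine Sylow.ext ?_
    rw [mul_smul]
    first
      | exact this
      | rwa [inf_eq_left.2 hle] at this
  exact ⟨s, s.2, Sylow.smul_eq_iff_mem_normalizer.1 hs'⟩

theorem normalizer_mapSurjective {K : Type u} [Group K] [Finite K] (f : H →* K)
    (hf : Function.Surjective f) (P : Sylow 2 H) :
    Subgroup.normalizer (((P.mapSurjective hf : Sylow 2 K) : Subgroup K) : Set K)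
      = (Subgroup.normalizer ((P : Subgroup H) : Set H)).map f := by
  apply le_antisymm
  · intro k hk
    obtain ⟨g, rfl⟩ := hf k
    rw [Sylow.coe_mapSurjective] at hk
    let L := ((P : Subgroup H).map f).comap f
    obtain ⟨a, ha, hag⟩ := exists_mul_normalizer P (K := L) (Subgroup.le_comap_map f _) g (fun x hx => by
      rw [Subgroup.mem_comap, map_mul, map_mul, map_inv]
      exact (Subgroup.mem_normalizer_iff.1 hk (f x)).1 ⟨x, hx, rfl⟩)
    obtain ⟨q, hq, e⟩ := Subgroup.mem_comap.1 ha
    refine ⟨q⁻¹ * (a * g), Subgroup.mul_mem _ (Subgroup.inv_mem _ (Subgroup.le_normalizer hq)) hag, ?_⟩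
    rw [map_mul, map_inv, map_mul, e, inv_mul_cancel_left]
  · rw [Sylow.coe_mapSurjective]
    exact Subgroup.le_normalizer_map f

/-- The projection to a quotient, restricted to the normalizers of the Sylow subgroups. -/
theorem rcount_normalizer_quotient (P : Sylow 2 H) (K : Subgroup H) [K.Normal]
    (hker : ∀ χ : IrrCharacter (Subgroup.normalizer ((P : Subgroup H) : Set H)),
      Re0 χ.1 → OddDeg χ.1 → ∀ n : Subgroup.normalizer ((P : Subgroup H) : Set H),
        (n : H) ∈ K → χ.1 n = χ.1 1) :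
    rcount (Subgroup.normalizer (((P.mapSurjective (QuotientGroup.mk'_surjective K) :
        Sylow 2 (H ⧸ K)) : Subgroup (H ⧸ K)) : Set (H ⧸ K)))
      = rcount (Subgroup.normalizer ((P : Subgroup H) : Set H)) := by
  rw [normalizer_mapSurjective]
  refine rcount_surjective ((QuotientGroup.mk' K).subgroupMap _) (MonoidHom.subgroupMap_surjective _ _)
    fun χ hr ho n hn => hker χ hr ho n ?_
  have := congrArg Subtype.val (MonoidHom.mem_ker.1 hn)
  exact (QuotientGroup.eq_one_iff _).1 this

/-- Linear characters separate outside a normal subgroup with abelian quotient. -/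
theorem separation {G : Type u} [Group G] [Finite G] (N : Subgroup G) [N.Normal]
    (hab : ∀ x y : G, x * y * x⁻¹ * y⁻¹ ∈ N) {g : G} (hg : g ∉ N) :
    ∃ l : G →* ℂˣ, l g ≠ 1 := by
  letI : CommGroup (G ⧸ N) :=
    { (inferInstance : Group (G ⧸ N)) with
      mul_comm := by
        intro a b
        induction a using QuotientGroup.induction_on with
        | H x =>
          induction b using QuotientGroup.induction_on with
          | H y =>
            refine (QuotientGroup.eq (a := x * y) (b := y * x)).2 ?_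
            simpa [mul_assoc] using hab y⁻¹ x⁻¹ }
  obtain ⟨φ, hφ⟩ := CommGroup.exists_apply_ne_one_of_hasEnoughRootsOfUnity (G ⧸ N) ℂ
    (a := (g : G ⧸ N)) (fun h => hg ((QuotientGroup.eq_one_iff g).1 h))
  exact ⟨φ.comp (QuotientGroup.mk' N), hφ⟩

theorem index_normalizer_odd (P : Sylow 2 H) :
    Odd (Subgroup.normalizer ((P : Subgroup H) : Set H)).index := by
  haveI := Fact.mk Nat.prime_two
  have h1 : Odd (P : Subgroup H).index :=
    Nat.not_even_iff_odd.1 fun e => P.not_dvd_index e.two_dvd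
  exact h1.of_dvd_nat (Subgroup.index_dvd_of_le Subgroup.le_normalizer)

end CfsgLib.RealOdd
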